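import Groth.Agent.EtCoh7.Local
import Mathlib.LinearAlgebra.TensorProduct.RightExactness
import Mathlib.RingTheory.Flat.Basic

/-!
# Cartesian modules with finitely presented sections, kernels and exact sequences
-/

set_option backward.isDefEq.respectTransparency false
set_option backward.isDefEq.respectTransparency.types false
set_option linter.style.haveILetI false
set_option maxHeartbeats 1000000

universe u

open CategoryTheory CategoryTheory.Limits AlgebraicGeometry Opposite AlgSp TensorProduct

namespace Groth.Agent.EtCoh7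

open Groth.Agent.AlgSpQ4.MV Groth.Agent.AlgSpDec Groth.Agent.EtQCoh

variable {S : Scheme.{u}} {X : Sp S}

/-- A morphism of modules on sections. -/
noncomputable def appLin {M N : ModEt X} (φ : M ⟶ N) (E : EtOver X) : sectModEt M E →ₗ[gam E] sectModEt N E where
  toFun := φ.val.app (op E)
  map_add' := map_add _
  map_smul' a x := app_smul φ a x

theorem appLin_apply {M N : ModEt X} (φ : M ⟶ N) (E : EtOver X) (x : sectModEt M E) :
    appLin φ E x = φ.val.app (op E) x := rfl

theorem appLin_res {M N : ModEt X} (φ : M ⟶ N) {E T : EtOver X} (g : T ⟶ E) (x : sectModEt M E) :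
    appLin φ T (res M g x) = res N g (appLin φ E x) := app_res φ g x

theorem θ_nat {M N : ModEt X} (φ : M ⟶ N) {E T : EtOver X} (g : T ⟶ E) :
    letI := (pb g).toAlgebra
    ∀ t : gam T ⊗[gam E] sectModEt M E, θ N g ((appLin φ E).lTensor (gam T) t) = appLin φ T (θ M g t) := by
  letI := (pb g).toAlgebra
  intro t
  induction t with
  | zero => simp
  | add a b ha hb => simp only [map_add, ha, hb]
  | tmul r x => rw [LinearMap.lTensor_tmul, θ_tmul, θ_tmul, map_smul, appLin_res]

theorem exact_appLin_kernel {M N : ModEt X} (φ : M ⟶ N) (E : EtOver X) :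
    Function.Exact (appLin (kernel.ι φ) E) (appLin φ E) := by
  intro x
  refine ⟨fun hx => exact_of_kernel φ E x hx, ?_⟩
  rintro ⟨k, rfl⟩
  exact congrArg (fun ψ : kernel φ ⟶ N => ψ.val.app (op E) k) (kernel.condition φ)

theorem flat_pb' {E T : EtOver X} [IsAffine E.obj.left.left] [IsAffine T.obj.left.left] (g : T ⟶ E) :
    letI := (pb g).toAlgebra
    Module.Flat (gam E) (gam T) := flat_pb g

theorem appLin_kernel_zero {M N : ModEt X} (φ : M ⟶ N) (E : EtOver X) (x : sectModEt (kernel φ) E) :
    appLin φ E (appLin (kernel.ι φ) E x) = 0 := (exact_appLin_kernel φ E _).2 ⟨x, rfl⟩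

theorem cartMap_injective_kernel {M N : ModEt X} (φ : M ⟶ N) {E T : EtOver X} [IsAffine E.obj.left.left]
    [IsAffine T.obj.left.left] (g : T ⟶ E) (hM : CartMap M g) :
    letI := (pb g).toAlgebra
    Function.Injective (θ (kernel φ) g) := by
  let := (pb g).toAlgebra
  have := flat_pb' g
  have hinj : Function.Injective ((appLin (kernel.ι φ) E).lTensor (gam T)) :=
    Module.Flat.lTensor_preserves_injective_linearMap _ (app_injective_of_mono (kernel.ι φ) E)
  intro t t' h
  apply hinj
  apply hM.1
  exact (θ_nat (kernel.ι φ) g t).trans ((congrArg (appLin (kernel.ι φ) T) h).trans (θ_nat (kernel.ι φ) g t').symm)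

theorem cartMap_surjective_kernel {M N : ModEt X} (φ : M ⟶ N) {E T : EtOver X} [IsAffine E.obj.left.left]
    [IsAffine T.obj.left.left] (g : T ⟶ E) (hM : CartMap M g) (hN : CartMap N g) :
    letI := (pb g).toAlgebra
    Function.Surjective (θ (kernel φ) g) := by
  let := (pb g).toAlgebra
  have := flat_pb' g
  have hex : Function.Exact ((appLin (kernel.ι φ) E).lTensor (gam T)) ((appLin φ E).lTensor (gam T)) :=
    Module.Flat.lTensor_exact (gam T) (exact_appLin_kernel φ E)
  intro x
  obtain ⟨s, hs⟩ := hM.2 (appLin (kernel.ι φ) T x)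
  have h1 : θ N g ((appLin φ E).lTensor (gam T) s) = θ N g 0 :=
    (θ_nat φ g s).trans ((congrArg (appLin φ T) hs).trans ((appLin_kernel_zero φ T x).trans (θ N g).map_zero.symm))
  obtain ⟨t, ht⟩ := (hex s).1 (hN.1 h1)
  exact ⟨t, app_injective_of_mono (kernel.ι φ) T
    (((θ_nat (kernel.ι φ) g t).symm.trans (congrArg (θ M g) ht)).trans hs)⟩

/-- Kernels of morphisms of cartesian modules are cartesian. -/
theorem cartAt_kernel {M N : ModEt X} (φ : M ⟶ N) {E : EtOver X} [IsAffine E.obj.left.left] (hM : CartAt M E)
    (hN : CartAt N E) : CartAt (kernel φ) E := fun T hT g =>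
  ⟨cartMap_injective_kernel φ g (hM T hT g), cartMap_surjective_kernel φ g (hM T hT g) (hN T hT g)⟩

/-- The identification of tuples with values in a tensor product. -/
noncomputable def tupleMap {A B : Type*} [CommRing A] [CommRing B] [Algebra A B] (n : ℕ) :
    B ⊗[A] (Fin n → A) →ₗ[A] (Fin n → B) :=
  TensorProduct.lift (LinearMap.mk₂ A (fun (b : B) (w : Fin n → A) i => b * algebraMap A B (w i))
    (fun b b' w => funext fun i => add_mul _ _ _)
    (fun a b w => funext fun i => by simp [Algebra.smul_def, mul_assoc])
    (fun b w w' => funext fun i => by simp [mul_add])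
    (fun a b w => funext fun i => by simp [Algebra.smul_def, mul_left_comm]))

theorem tupleMap_tmul {A B : Type*} [CommRing A] [CommRing B] [Algebra A B] (n : ℕ) (b : B) (w : Fin n → A) :
    tupleMap n (b ⊗ₜ[A] w) = fun i => b * algebraMap A B (w i) := rfl

/-- Relations after base change are combinations of the relations. -/
theorem mem_span_rows {A B : Type*} [CommRing A] [CommRing B] [Algebra A B] {P : Type*} [AddCommGroup P]
    [Module A P] {n m : ℕ} (c : Fin n → P) (r : Fin m → Fin n → A) (hc : Submodule.span A (Set.range c) = ⊤)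
    (hr : Submodule.span A (Set.range r) = LinearMap.ker (Fintype.linearCombination A c))
    (v : Fin n → B) (hv : ∑ i, v i ⊗ₜ[A] c i = 0) :
    v ∈ Submodule.span B (Set.range fun j => fun i => algebraMap A B (r j i)) := by
  classical
  let C := Fintype.linearCombination A c
  let R := Fintype.linearCombination A r
  have hex : Function.Exact R C := by
    rw [LinearMap.exact_iff, Fintype.range_linearCombination, hr]
  have hsurj : Function.Surjective C := by
    rw [← LinearMap.range_eq_top, Fintype.range_linearCombination, hc]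
  let t : B ⊗[A] (Fin n → A) := ∑ i, v i ⊗ₜ[A] Pi.single i 1
  have ht : C.lTensor B t = 0 := by
    rw [map_sum]
    refine Eq.trans (Finset.sum_congr rfl fun i _ => ?_) hv
    rw [LinearMap.lTensor_tmul, Fintype.linearCombination_apply_single, one_smul]
  obtain ⟨s, hs⟩ := (lTensor_exact B hex hsurj t).1 ht
  have e : tupleMap n t = v := by
    funext k
    rw [map_sum, Finset.sum_apply]
    refine (Finset.sum_eq_single k (fun i _ hik => ?_) fun h => absurd (Finset.mem_univ _) h).trans ?_
    · rw [tupleMap_tmul]
      show v i * algebraMap A B ((Pi.single i 1 : Fin n → A) k) = 0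
      rw [Pi.single_eq_of_ne (Ne.symm hik), map_zero, mul_zero]
    · rw [tupleMap_tmul]
      show v k * algebraMap A B ((Pi.single k 1 : Fin n → A) k) = v k
      rw [Pi.single_eq_same, map_one, mul_one]
  rw [← e, ← hs]
  clear hs
  induction s with
  | zero => simp
  | add a b ha hb => rw [map_add, map_add]; exact Submodule.add_mem _ ha hb
  | tmul b w =>
    rw [LinearMap.lTensor_tmul, tupleMap_tmul]
    have : (fun i => b * algebraMap A B (R w i)) =
        ∑ j, (b * algebraMap A B (w j)) • fun i => algebraMap A B (r j i) := by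
      funext i
      simp [R, Fintype.linearCombination_apply, Finset.mul_sum, mul_assoc]
    rw [this]
    exact Submodule.sum_mem _ fun j _ => Submodule.smul_mem _ _ (Submodule.subset_span ⟨j, rfl⟩)

/-- A cartesian module with finitely generated sections on a Noetherian affine object has a local presentation. -/
theorem nonempty_locPres {M : ModEt X} {F : EtOver X} (hF : IsNoeth F) (hM : CartAt M F)
    (hfin : Module.Finite (gam F) (sectModEt M F)) : Nonempty (LocPres M F) := by
  have := hF.1; have := hF.2
  obtain ⟨n, c, hc⟩ := Module.Finite.exists_fin (R := gam F) (M := sectModEt M F)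
  obtain ⟨m, r, hr⟩ := Submodule.fg_iff_exists_fin_generating_family.1
    (IsNoetherian.noetherian (LinearMap.ker (Fintype.linearCombination (gam F) c)))
  refine ⟨{ n := n, m := m, c := c, r := r, comp := fun j => ?_, gen := fun T _ a y => ?_,
            rel := fun T _ a v hv => ?_ }⟩
  · have : r j ∈ LinearMap.ker (Fintype.linearCombination (gam F) c) := hr ▸ Submodule.subset_span ⟨j, rfl⟩
    rw [LinearMap.mem_ker, Fintype.linearCombination_apply] at this
    exact this
  · refine ⟨PUnit.{u + 1}, fun _ => T, fun _ => 𝟙 T, fun x => ⟨PUnit.unit, x, rfl⟩, fun _ => ?_⟩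
    have h := span_res_eq_top hM a hc
    rw [← Set.range_comp] at h
    rw [res_id, Category.id_comp]
    exact h ▸ Submodule.mem_top
  · refine ⟨PUnit.{u + 1}, fun _ => T, fun _ => 𝟙 T, fun x => ⟨PUnit.unit, x, rfl⟩, fun _ => ?_⟩
    let := (pb a).toAlgebra
    have hz : ∑ i, v i ⊗ₜ[gam F] c i = 0 := (hM T inferInstance a).1 (by
      rw [map_sum, map_zero]
      exact hv)
    have h := mem_span_rows c r hc hr v hz
    simp only [Category.id_comp]
    exact h

/-- Cartesian modules with finite sections on Noetherian affine objects are of finite presentation. -/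
theorem isFinitePresentation_of_cartAt (hX : IsLocNoethSp X) (M : ModEt X)
    (h : ∀ E : EtOver X, IsNoeth E → CartAt M E ∧ Module.Finite (gam E) (sectModEt M E)) :
    M.IsFinitePresentation :=
  isFinitePresentation_of_locPres hX M fun E hE x =>
    ⟨E, 𝟙 E, nonempty_locPres hE (h E hE).1 (h E hE).2, x, rfl⟩

/-- The kernel of a morphism of modules of finite presentation is of finite presentation. -/
theorem isFinitePresentation_kernel (hX : IsLocNoethSp X) {M N : ModEt X} [M.IsFinitePresentation]
    [N.IsFinitePresentation] (φ : M ⟶ N) : (kernel φ).IsFinitePresentation :=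
  isFinitePresentation_of_cartAt hX _ fun E hE => by
    have := hE.1; have := hE.2
    have := finite_sect M E
    exact ⟨cartAt_kernel φ (cartAt M E) (cartAt N E), finite_of_mono (kernel.ι φ) E⟩

theorem isFinitePresentation_of_finiteType (hX : IsLocNoethSp X) (M : ModEt X) [M.IsQuasicoherent]
    [M.IsFiniteType] : M.IsFinitePresentation :=
  isFinitePresentation_of_cartAt hX _ fun E hE => by
    have := hE.1
    exact ⟨cartAt M E, finite_sect M E⟩

theorem isFinitePresentation_of_mono (hX : IsLocNoethSp X) {M N : ModEt X} [M.IsFinitePresentation] (ι : N ⟶ M)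
    [Mono ι] [N.IsQuasicoherent] : N.IsFinitePresentation :=
  isFinitePresentation_of_cartAt hX _ fun E hE => by
    have := hE.1; have := hE.2
    have := finite_sect M E
    exact ⟨cartAt N E, finite_of_mono ι E⟩

theorem finite_of_epi {M Q : ModEt X} (π : M ⟶ Q) [Epi π] {E : EtOver X} [IsAffine E.obj.left.left]
    (hM : CartAt M E) (hQ : CartAt Q E) [Module.Finite (gam E) (sectModEt M E)] :
    Module.Finite (gam E) (sectModEt Q E) := by
  obtain ⟨n, c, hc⟩ := Module.Finite.exists_fin (R := gam E) (M := sectModEt M E)
  have h := span_image_eq_top_of_epi π hM hQ hc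
  refine ⟨Submodule.fg_def.2 ⟨_, (Set.finite_range c).image _, h⟩⟩

theorem isFinitePresentation_of_epi (hX : IsLocNoethSp X) {M Q : ModEt X} [M.IsFinitePresentation] (π : M ⟶ Q)
    [Epi π] [Q.IsQuasicoherent] : Q.IsFinitePresentation :=
  isFinitePresentation_of_cartAt hX _ fun E hE => by
    have := hE.1
    have := finite_sect M E
    exact ⟨cartAt Q E, finite_of_epi π (cartAt M E) (cartAt Q E)⟩

end Groth.Agent.EtCoh7
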