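import Groth.Agent.EtCoh7.Exact
import Mathlib.RingTheory.Noetherian.Basic
import Mathlib.CategoryTheory.Subobject.Basic

/-!
# Ascending chains of quasi-coherent submodules of coherent modules
-/

set_option backward.isDefEq.respectTransparency false
set_option backward.isDefEq.respectTransparency.types false
set_option linter.style.haveILetI false
set_option maxHeartbeats 1000000

universe u

open CategoryTheory CategoryTheory.Limits AlgebraicGeometry Opposite AlgSp TensorProduct

namespace Groth.Agent.EtCoh7

open Groth.Agent.AlgSpQ4.MV Groth.Agent.AlgSpDec Groth.Agent.EtQCoh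

variable {S : Scheme.{u}} {X : Sp S}

/-- A quasi-compact locally Noetherian space is covered by finitely many Noetherian affine objects. -/
theorem exists_finite_noeth_cover (hqc : IsQuasiCompactSp X) (hN : IsLocNoethSp X) :
    ∃ (ι : Type u) (_ : Finite ι) (E : ι → EtOver X), (∀ i, IsNoeth (E i)) ∧
      ∀ x : Points X, ∃ (i : ι) (e : ↥(E i).obj.left.left), Points.ofPt (E i).obj.hom e = x := by
  obtain ⟨U, p, hp, hps, hU⟩ := hqc
  let A : EtOver X := EtOver.mk p hp
  choose F g hF hx using exists_noeth_at hN A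
  have hopen : ∀ a, IsOpen (Set.range (g a).hom.left.left) := fun a => by
    have : Etale (g a).hom.left.left := EtOver.etale_left _
    exact (g a).hom.left.left.isOpenMap.isOpen_range
  have hU' : CompactSpace ↥A.obj.left.left := hU
  obtain ⟨s, hs⟩ := (isCompact_univ (X := ↥A.obj.left.left)).elim_finite_subcover _ hopen
    fun a _ => Set.mem_iUnion.2 ⟨a, hx a⟩
  refine ⟨↥s, Finite.of_fintype _, fun a => F a.1, fun a => hF a.1, fun x => ?_⟩
  obtain ⟨a, ha⟩ := AlgSpLib.surjective_ofPt hps x
  have ha' := hs (Set.mem_univ a)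
  simp only [Set.mem_iUnion] at ha'
  obtain ⟨b, hb, e, he⟩ := ha'
  refine ⟨⟨b, hb⟩, e, (ofPt_hom (g b) e).trans ?_⟩
  rw [he]
  exact ha

/-- A morphism of modules which is surjective on sections locally is an epimorphism. -/
theorem epi_of_local_sect {M N : ModEt X} (φ : M ⟶ N)
    (h : ∀ (T : EtOver X) (x : ↥T.obj.left.left), ∃ (W : EtOver X) (g : W ⟶ T),
      x ∈ Set.range g.hom.left.left ∧ Function.Surjective (appLin φ W)) : Epi φ := by
  refine ⟨fun {Z} p q e => SheafOfModules.hom_ext (PresheafOfModules.hom_ext fun V => ModuleCat.hom_ext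
    (LinearMap.ext fun y => ?_))⟩
  obtain ⟨T⟩ := V
  choose W g hx hs using h T
  refine glue_ext Z W g (fun x => ⟨x, hx x⟩) (s := p.val.app (op T) y) (t := q.val.app (op T) y) fun x => ?_
  obtain ⟨z, hz⟩ := hs x (res N (g x) y)
  rw [← app_res, ← app_res]
  refine ((congrArg (p.val.app (op (W x))) hz).symm.trans ?_).trans (congrArg (q.val.app (op (W x))) hz)
  exact congrArg (fun ψ => appLin ψ (W x) z) e

/-- Ascending chains of quasi-coherent subobjects of a coherent module are eventually constant. -/
theorem chain_stabilizes (hqc : IsQuasiCompactSp X) (hN : IsLocNoethSp X) (M : ModEt X)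
    [M.IsFinitePresentation] (N : ℕ →o Subobject M) (hq : ∀ n, (Subobject.underlying.obj (N n)).IsQuasicoherent) :
    ∃ n, ∀ m, n ≤ m → N m = N n := by
  obtain ⟨ι, hι, E, hE, hcov⟩ := exists_finite_noeth_cover hqc hN
  have hstab : ∀ i, ∃ n, ∀ m, n ≤ m →
      LinearMap.range (appLin (N m).arrow (E i)) = LinearMap.range (appLin (N n).arrow (E i)) := fun i => by
    have := (hE i).1; have := (hE i).2
    have := finite_sect M (E i)
    let f : ℕ →o Submodule (gam (E i)) (sectModEt M (E i)) :=
      ⟨fun n => LinearMap.range (appLin (N n).arrow (E i)), fun a b hab => by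
        rintro _ ⟨y, rfl⟩
        refine ⟨appLin (Subobject.ofLE _ _ (N.monotone hab)) (E i) y, ?_⟩
        exact congrArg (fun ψ => appLin ψ (E i) y) (Subobject.ofLE_arrow (N.monotone hab))⟩
    obtain ⟨n, hn⟩ := monotone_stabilizes_iff_noetherian.2 inferInstance f
    exact ⟨n, fun m hm => (hn m hm).symm⟩
  choose n hn using hstab
  have := Fintype.ofFinite ι
  refine ⟨Finset.univ.sup n, fun m hm => ?_⟩
  have hle : N (Finset.univ.sup n) ≤ N m := N.monotone hm
  refine le_antisymm ?_ hle
  let j := Subobject.ofLE _ _ hle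
  have : Epi j := epi_of_local_sect j fun T x => by
    obtain ⟨i, e, he⟩ := hcov (Points.ofPt T.obj.hom x)
    obtain ⟨W, hW, g, g', w, hg, hg'⟩ := exists_common_chart x e he.symm
    refine ⟨W, g, ⟨w, hg⟩, ?_⟩
    have := (hE i).1
    have := hq (Finset.univ.sup n)
    have := hq m
    refine appLin_surjective j (cartAt _ (E i)) (Submodule.span_univ) (fun y _ => ?_) g'
    have hmem : appLin (N m).arrow (E i) y ∈ LinearMap.range (appLin (N (Finset.univ.sup n)).arrow (E i)) := by
      rw [hn i _ (Finset.le_sup (Finset.mem_univ i)), ← hn i m ((Finset.le_sup (Finset.mem_univ i)).trans hm)]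
      exact ⟨y, rfl⟩
    obtain ⟨z, hz⟩ := hmem
    refine ⟨z, app_injective_of_mono (N m).arrow (E i) ?_⟩
    exact (congrArg (fun ψ => appLin ψ (E i) z) (Subobject.ofLE_arrow hle)).trans hz
  have : IsIso j := isIso_of_mono_of_epi j
  exact Subobject.le_of_comm (inv j) (by rw [IsIso.inv_comp_eq, Subobject.ofLE_arrow])

end Groth.Agent.EtCoh7
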