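import Groth.Agent.EtCoh7.Cart
import Mathlib.RingTheory.Finiteness.Finsupp
import Mathlib.CategoryTheory.Abelian.Images

/-!
# Cokernels and extensions of coherent modules on the small etale site
-/

set_option backward.isDefEq.respectTransparency false
set_option backward.isDefEq.respectTransparency.types false
set_option linter.style.haveILetI false
set_option maxHeartbeats 2000000

universe u

open CategoryTheory CategoryTheory.Limits AlgebraicGeometry Opposite AlgSp TensorProduct

namespace Groth.Agent.EtCoh7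

open Groth.Agent.AlgSpQ4.MV Groth.Agent.AlgSpDec Groth.Agent.EtQCoh

variable {S : Scheme.{u}} {X : Sp S}

/-- Sections killed by a cokernel projection come locally from the source. -/
theorem exists_cover_of_cokernel {M N : ModEt X} (φ : M ⟶ N) {T : EtOver X} [IsAffine T.obj.left.left]
    (w : sectModEt N T) (hw : appLin (cokernel.π φ) T w = 0) :
    ∃ (ι : Type u) (_ : Finite ι) (Y : ι → EtOver X) (_ : ∀ i, IsAffine (Y i).obj.left.left) (g : ∀ i, Y i ⟶ T),
      (∀ i, ∃ z : sectModEt M (Y i), appLin φ (Y i) z = res N (g i) w) ∧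
        ∀ x : ↥T.obj.left.left, ∃ i, x ∈ Set.range (g i).hom.left.left := by
  obtain ⟨k, hk⟩ := exact_of_kernel (cokernel.π φ) T w hw
  obtain ⟨ι, hι, Y, hY, g, hz, hc⟩ := exists_cover_of_epi (Abelian.factorThruImage φ) k
  refine ⟨ι, hι, Y, hY, g, fun i => ?_, hc⟩
  obtain ⟨z, hz⟩ := hz i
  refine ⟨z, ?_⟩
  have e : appLin φ (Y i) z = appLin (kernel.ι (cokernel.π φ)) (Y i) (appLin (Abelian.factorThruImage φ) (Y i) z) :=
    congrArg (fun ψ => appLin ψ (Y i) z) (Abelian.image.fac φ).symm
  have e' : appLin (Abelian.factorThruImage φ) (Y i) z = res (kernel (cokernel.π φ)) (g i) k := hz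
  rw [e, e', appLin_res]
  exact congrArg _ hk

theorem mem_span_rows_pb {F T V : EtOver X} {N : ModEt X} {n m : ℕ} (c : Fin n → sectModEt N F)
    (r : Fin m → Fin n → gam F) (hc : Submodule.span (gam F) (Set.range c) = ⊤)
    (hr : Submodule.span (gam F) (Set.range r) = LinearMap.ker (Fintype.linearCombination (gam F) c))
    [IsAffine V.obj.left.left] (hN : CartAt N F) (a : T ⟶ F) (g : V ⟶ T) (v : Fin n → gam V)
    (hv : ∑ i, v i • res N (g ≫ a) (c i) = 0) :
    v ∈ Submodule.span (gam V) (Set.range fun j => fun i => pb (g ≫ a) (r j i)) := by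
  let := (pb (g ≫ a)).toAlgebra
  refine mem_span_rows c r hc hr v ((hN V inferInstance (g ≫ a)).1 ?_)
  rw [map_sum, map_zero]
  exact hv

/-- Local presentations of cokernels. -/
theorem nonempty_locPres_cokernel {M N : ModEt X} (φ : M ⟶ N) {F : EtOver X} (hF : IsNoeth F) (hM : CartAt M F)
    (hN : CartAt N F) (hMf : Module.Finite (gam F) (sectModEt M F)) (hNf : Module.Finite (gam F) (sectModEt N F)) :
    Nonempty (LocPres (cokernel φ) F) := by
  have := hF.1; have := hF.2
  obtain ⟨n, c, hc⟩ := Module.Finite.exists_fin (R := gam F) (M := sectModEt N F)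
  obtain ⟨m, r, hr⟩ := Submodule.fg_iff_exists_fin_generating_family.1
    (IsNoetherian.noetherian (LinearMap.ker (Fintype.linearCombination (gam F) c)))
  obtain ⟨l, d, hd⟩ := Module.Finite.exists_fin (R := gam F) (M := sectModEt M F)
  have ha : ∀ j, ∃ a : Fin n → gam F, ∑ i, a i • c i = appLin φ F (d j) := fun j =>
    Submodule.mem_span_range_iff_exists_fun _ |>.1 (hc ▸ Submodule.mem_top)
  choose a ha using ha
  let q := cokernel.π φ
  have hq : ∀ (T : EtOver X) (x : sectModEt M T), appLin q T (appLin φ T x) = 0 := fun T x =>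
    congrArg (fun ψ => appLin ψ T x) (cokernel.condition φ)
  refine ⟨{ n := n, m := m + l, c := fun i => appLin q F (c i), r := Fin.append r a,
            comp := fun j => ?_, gen := fun T _ b y => ?_, rel := fun T _ b v hv => ?_ }⟩
  · simp only [← map_smul, ← map_sum]
    refine Fin.addCases (fun j => ?_) (fun j => ?_) j
    · simp only [Fin.append_left]
      have : r j ∈ LinearMap.ker (Fintype.linearCombination (gam F) c) := hr ▸ Submodule.subset_span ⟨j, rfl⟩
      rw [LinearMap.mem_ker, Fintype.linearCombination_apply] at this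
      rw [this, map_zero]
    · simp only [Fin.append_right]
      rw [ha j, hq]
  · obtain ⟨ι, -, Y, hY, g, hz, hcov⟩ := exists_cover_of_epi q y
    refine ⟨ι, Y, g, hcov, fun k => ?_⟩
    obtain ⟨z, hz⟩ := hz k
    have := hY k
    have h := app_mem_span q (span_res_eq_top hN (g k ≫ b) hc ▸ (Submodule.mem_top : z ∈ ⊤))
    rw [← Set.range_comp, ← Set.range_comp] at h
    rw [← hz]
    refine Submodule.span_mono ?_ h
    rintro _ ⟨i, rfl⟩
    exact ⟨i, (appLin_res q (g k ≫ b) (c i)).symm⟩
  · let w := ∑ i, v i • res N b (c i)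
    have hw : appLin q T w = 0 := by
      rw [map_sum]
      refine Eq.trans (Finset.sum_congr rfl fun i _ => ?_) hv
      rw [map_smul, appLin_res]
    obtain ⟨ι, -, Y, hY, g, hz, hcov⟩ := exists_cover_of_cokernel φ w hw
    refine ⟨ι, Y, g, hcov, fun k => ?_⟩
    obtain ⟨z, hz⟩ := hz k
    have := hY k
    have hzspan : z ∈ Submodule.span (gam (Y k)) (Set.range fun j => res M (g k ≫ b) (d j)) := by
      have h := span_res_eq_top hM (g k ≫ b) hd
      rw [← Set.range_comp] at h
      exact h ▸ Submodule.mem_top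
    obtain ⟨e, he⟩ := Submodule.mem_span_range_iff_exists_fun _ |>.1 hzspan
    let va : Fin n → gam (Y k) := ∑ j, e j • fun i => pb (g k ≫ b) (a j i)
    have h₁ : ∑ i, va i • res N (g k ≫ b) (c i) = res N (g k) w := by
      rw [← hz, ← he, map_sum]
      simp only [va, Finset.sum_apply, Pi.smul_apply, smul_eq_mul, Finset.sum_smul, mul_smul]
      rw [Finset.sum_comm]
      refine Finset.sum_congr rfl fun j _ => ?_
      rw [map_smul, appLin_res, ← ha j, map_sum, Finset.smul_sum]
      exact Finset.sum_congr rfl fun i _ => by rw [res_smul]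
    have h₂ : res N (g k) w = ∑ i, pb (g k) (v i) • res N (g k ≫ b) (c i) := by
      rw [map_sum]
      exact Finset.sum_congr rfl fun i _ => by rw [res_smul, res_comp]
    have h₃ : ∑ i, ((fun i => pb (g k) (v i)) - va) i • res N (g k ≫ b) (c i) = 0 := by
      simp only [Pi.sub_apply, sub_smul, Finset.sum_sub_distrib]
      rw [h₁, h₂, sub_self]
    have h₄ := mem_span_rows_pb c r hc hr hN b (g k) _ h₃
    have hsub : ∀ j, (fun i => pb (g k ≫ b) (a j i)) ∈
        Submodule.span (gam (Y k)) (Set.range fun j => fun i => pb (g k ≫ b) (Fin.append r a j i)) := fun j =>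
      Submodule.subset_span ⟨Fin.natAdd m j, by simp only [Fin.append_right]⟩
    have hle : Submodule.span (gam (Y k)) (Set.range fun j => fun i => pb (g k ≫ b) (r j i)) ≤
        Submodule.span (gam (Y k)) (Set.range fun j => fun i => pb (g k ≫ b) (Fin.append r a j i)) := by
      refine Submodule.span_mono ?_
      rintro _ ⟨j, rfl⟩
      exact ⟨Fin.castAdd l j, by simp only [Fin.append_left]⟩
    have hva : va ∈ Submodule.span (gam (Y k)) (Set.range fun j => fun i => pb (g k ≫ b) (Fin.append r a j i)) :=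
      Submodule.sum_mem _ fun j _ => Submodule.smul_mem _ _ (hsub j)
    have := Submodule.add_mem _ (hle h₄) hva
    rwa [sub_add_cancel] at this

theorem isFinitePresentation_cokernel (hX : IsLocNoethSp X) {M N : ModEt X} [M.IsFinitePresentation]
    [N.IsFinitePresentation] (φ : M ⟶ N) : (cokernel φ).IsFinitePresentation :=
  isFinitePresentation_of_locPres hX _ fun E hE x => by
    have := hE.1
    exact ⟨E, 𝟙 E, nonempty_locPres_cokernel φ hE (cartAt M E) (cartAt N E) (finite_sect M E) (finite_sect N E), x, rfl⟩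

/-- Finitely many sections of the target of an epimorphism lift on a neighbourhood of every point. -/
theorem exists_lift_nhd {M N : ModEt X} (φ : M ⟶ N) [Epi φ] {E : EtOver X} (hE : IsNoeth E) (x : ↥E.obj.left.left)
    (s : Finset (sectModEt N E)) :
    ∃ (F : EtOver X) (g : F ⟶ E), IsNoeth F ∧ x ∈ Set.range g.hom.left.left ∧
      ∀ y ∈ s, res N g y ∈ Set.range (appLin φ F) := by
  classical
  induction s using Finset.induction_on with
  | empty => exact ⟨E, 𝟙 E, hE, ⟨x, rfl⟩, by simp⟩
  | insert y s _ ih =>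
    obtain ⟨F, g, hF, ⟨f, hf⟩, hs⟩ := ih
    have := hF.1
    obtain ⟨ι, -, Y, hY, h, hz, hc⟩ := exists_cover_of_epi φ (res N g y)
    obtain ⟨i, p, hp⟩ := hc f
    refine ⟨Y i, h i ≫ g, hF.of_hom (hY i) (h i), ⟨p, (congrArg g.hom.left.left hp).trans hf⟩, fun y' hy' => ?_⟩
    rcases Finset.mem_insert.1 hy' with rfl | hy'
    · obtain ⟨z, hz⟩ := hz i
      exact ⟨z, hz.trans (res_comp N (h i) g y').symm⟩
    · obtain ⟨z, hz⟩ := hs y' hy'
      exact ⟨res M (h i) z, by rw [appLin_res, hz, res_comp]⟩

theorem appLin_surjective {M N : ModEt X} (φ : M ⟶ N) {F T : EtOver X} [IsAffine T.obj.left.left] (hN : CartAt N F)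
    {s : Set (sectModEt N F)} (hs : Submodule.span (gam F) s = ⊤) (hl : s ⊆ Set.range (appLin φ F)) (a : T ⟶ F) :
    Function.Surjective (appLin φ T) := by
  rw [← LinearMap.range_eq_top, eq_top_iff, ← span_res_eq_top hN a hs, Submodule.span_le]
  rintro _ ⟨y, hy, rfl⟩
  obtain ⟨z, rfl⟩ := hl hy
  exact ⟨res M a z, appLin_res φ a z⟩

/-- An extension of coherent modules has local presentations. -/
theorem nonempty_locPres_extension (T : ShortComplex (ModEt X)) (hT : T.ShortExact) {F : EtOver X} (hF : IsNoeth F)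
    (h1 : CartAt T.X₁ F) (h3 : CartAt T.X₃ F) (h1f : Module.Finite (gam F) (sectModEt T.X₁ F))
    (h3f : Module.Finite (gam F) (sectModEt T.X₃ F))
    (hsurj : ∀ (V : EtOver X) [IsAffine V.obj.left.left] (_ : V ⟶ F), Function.Surjective (appLin T.g V)) :
    Nonempty (LocPres T.X₂ F) := by
  have := hF.1; have := hF.2
  have := hT.mono_f
  have hex : ∀ V : EtOver X, Function.Exact (appLin T.f V) (appLin T.g V) := fun V => by
    intro y
    let G := SheafOfModules.forget (OEtRing X) ⋙ PresheafOfModules.evaluation (OEtRing X).obj (op V)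
    have hS : (T.map G).Exact := hT.exact.map_of_mono_of_preservesKernel G hT.mono_f inferInstance
    refine ⟨fun hy => (ShortComplex.moduleCat_exact_iff _).1 hS y hy, ?_⟩
    rintro ⟨z, rfl⟩
    exact congrArg (fun ψ => appLin ψ V z) T.zero
  have h2 : CartAt T.X₂ F := by
    intro V hV a
    let := (pb a).toAlgebra
    have hg := hsurj F (𝟙 F)
    have hexT := lTensor_exact (gam V) (hex F) hg
    refine ⟨(injective_iff_map_eq_zero _).2 fun t ht => ?_, fun y => ?_⟩
    · have h0 : (appLin T.g F).lTensor (gam V) t = 0 := (h3 V hV a).1 (by rw [θ_nat, ht, map_zero, map_zero])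
      obtain ⟨s, rfl⟩ := (hexT t).1 h0
      have hs : θ T.X₁ a s = 0 := app_injective_of_mono T.f V (by
        show appLin T.f V (θ T.X₁ a s) = appLin T.f V 0
        rw [← θ_nat, ht, map_zero])
      rw [(h1 V hV a).1 (hs.trans (map_zero _).symm), map_zero]
    · obtain ⟨s, hs⟩ := (h3 V hV a).2 (appLin T.g V y)
      obtain ⟨t, rfl⟩ := LinearMap.lTensor_surjective (gam V) hg s
      have h0 : appLin T.g V (y - θ T.X₂ a t) = 0 := by rw [map_sub, ← θ_nat, hs, sub_self]
      obtain ⟨x₁, hx₁⟩ := (hex V _).1 h0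
      obtain ⟨u₁, rfl⟩ := (h1 V hV a).2 x₁
      refine ⟨t + (appLin T.f F).lTensor (gam V) u₁, ?_⟩
      rw [map_add, θ_nat, hx₁]
      abel
  have h2f : Module.Finite (gam F) (sectModEt T.X₂ F) := by
    refine ⟨Submodule.fg_of_fg_map_of_fg_inf_ker (appLin T.g F) ?_ ?_⟩
    · rw [Submodule.map_top, LinearMap.range_eq_top.2 (hsurj F (𝟙 F))]
      exact h3f.fg_top
    · rw [top_inf_eq, (LinearMap.exact_iff.1 (hex F)), LinearMap.range_eq_map]
      exact h1f.fg_top.map _
  exact nonempty_locPres hF h2 h2f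

theorem isFinitePresentation_extension (hX : IsLocNoethSp X) (T : ShortComplex (ModEt X)) (hT : T.ShortExact)
    [T.X₁.IsFinitePresentation] [T.X₃.IsFinitePresentation] : T.X₂.IsFinitePresentation :=
  isFinitePresentation_of_locPres hX _ fun E hE x => by
    classical
    have := hE.1
    have := hT.epi_g
    obtain ⟨s, hs⟩ := (finite_sect T.X₃ E).fg_top
    obtain ⟨F, g, hF, hx, hl⟩ := exists_lift_nhd T.g hE x s
    have := hF.1
    refine ⟨F, g, nonempty_locPres_extension T hT hF (cartAt _ F) (cartAt _ F) (finite_sect _ F) (finite_sect _ F)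
      fun V _ a => appLin_surjective T.g (cartAt _ F) (span_res_eq_top (cartAt _ E) g hs) ?_ a, hx⟩
    rintro _ ⟨y, hy, rfl⟩
    exact hl y hy

end Groth.Agent.EtCoh7
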