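import Groth.Agent.EtCoh7.SubCoh
import Groth.Agent.EtQCoh.CartanEt
import Groth.Agent.EtFound.FilteredSectionsGen
import Mathlib.Algebra.Category.ModuleCat.Sheaf.Colimits
import Mathlib.Algebra.Category.ModuleCat.Presheaf.Sheafification
import Mathlib.CategoryTheory.Limits.ConcreteCategory.Basic

/-!
# Sections on affine objects of filtered colimits of sheaves and of modules
-/

set_option backward.isDefEq.respectTransparency false
set_option backward.isDefEq.respectTransparency.types false
set_option linter.style.haveILetI false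
set_option maxHeartbeats 800000

universe v w u

open CategoryTheory CategoryTheory.Limits AlgebraicGeometry Opposite AlgSp

namespace Groth.Agent.EtCoh7

open Groth.Agent.AlgSpQ4.MV Groth.Agent.AlgSpDec Groth.Agent.EtQCoh

/-- The forgetful functor from modules to abelian sheaves preserves colimits. -/
theorem preservesColimitsOfShape_toSheaf {C : Type w} [Category.{v} C] {J : GrothendieckTopology C}
    (R : Sheaf J RingCat.{w}) [HasSheafify J AddCommGrpCat.{w}] [J.WEqualsLocallyBijective AddCommGrpCat.{w}]
    (I : Type w) [Category.{w} I] :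
    PreservesColimitsOfShape I (SheafOfModules.toSheaf.{w} R) := ⟨fun {K} => by
  let adj := PresheafOfModules.sheafificationAdjunction (𝟙 R.obj)
  let G := SheafOfModules.forget R ⋙ PresheafOfModules.restrictScalars (𝟙 R.obj)
  let sh := PresheafOfModules.sheafification (𝟙 R.obj)
  have : PreservesColimitsOfShape I sh := adj.leftAdjoint_preservesColimits.1
  have : PreservesColimitsOfShape I (presheafToSheaf J AddCommGrpCat.{w}) :=
    (CategoryTheory.sheafificationAdjunction J AddCommGrpCat.{w}).leftAdjoint_preservesColimits.1
  have : PreservesColimitsOfShape I (PresheafOfModules.toPresheaf.{w} R.obj) :=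
    PresheafOfModules.toPresheaf_preservesColimitsOfShape _ _
  have : PreservesColimitsOfShape I (PresheafOfModules.toPresheaf.{w} R.obj ⋙
      presheafToSheaf J AddCommGrpCat.{w}) := comp_preservesColimitsOfShape _ _
  have : PreservesColimitsOfShape I (sh ⋙ SheafOfModules.toSheaf R) :=
    @preservesColimitsOfShape_of_natIso _ _ _ _ _ _ _ _
      (PresheafOfModules.sheafificationCompToSheaf (𝟙 R.obj)).symm (by assumption)
  let L := K ⋙ G
  have : PreservesColimit (L ⋙ sh) (SheafOfModules.toSheaf R) :=
    preservesColimit_of_preserves_colimit_cocone (isColimitOfPreserves sh (colimit.isColimit L))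
      (isColimitOfPreserves (sh ⋙ SheafOfModules.toSheaf R) (colimit.isColimit L))
  have : IsIso adj.counit := inferInstance
  exact preservesColimit_of_iso_diagram (SheafOfModules.toSheaf R)
    (K₁ := L ⋙ sh) (Functor.associator K G sh ≪≫
      Functor.isoWhiskerLeft K (asIso adj.counit) ≪≫ Functor.rightUnitor K)⟩

variable {S : Scheme.{u}} {X : Sp S}

/-- Coverings of affine objects have finite affine refinements with affine overlaps. -/
theorem hasFiniteRefinements_affine :
    Groth.Agent.EtFound.FilteredSectionsGen.HasFiniteRefinements (etTop X)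
      (fun E : EtOver X => IsAffine E.obj.left.left) := by
  intro U hU R hR
  obtain ⟨ι, hι, Z, hZ, g, hm, hc⟩ := exists_finite_affine_cover (T := U) R hR
  obtain ⟨n, ⟨e⟩⟩ := Finite.exists_equiv_fin ι
  refine ⟨n, fun k => Z (e.symm k), fun k => g (e.symm k), fun k => hm _,
    AlgSp.ofArrows_mem_etTop _ _ fun x => ?_, fun k => hZ _, fun k l => ?_⟩
  · obtain ⟨i, hi⟩ := hc x
    refine ⟨e i, ?_⟩
    rw [e.symm_apply_apply]
    exact hi
  · have := hZ (e.symm k); have := hZ (e.symm l)
    exact CartanEt.isAffine_pullback (g (e.symm k)) (g (e.symm l))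

variable {I : Type (u + 1)} [Category.{u + 1} I] [IsFiltered I]

/-- Sections of abelian sheaves on affine objects commute with filtered colimits. -/
theorem preservesColimitsOfShape_secAb (U : EtOver X) [IsAffine U.obj.left.left] :
    PreservesColimitsOfShape I
      (sheafToPresheaf (etTop X) AddCommGrpCat.{u + 1} ⋙
        (evaluation (EtOver X)ᵒᵖ AddCommGrpCat.{u + 1}).obj (op U)) :=
  Groth.Agent.EtFound.FilteredSectionsGen.preservesColimitsOfShape_sections_ab.{u + 1, u, u + 1} hasFiniteRefinements_affine
    (inferInstanceAs (IsAffine U.obj.left.left))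

/-- Sections of modules on affine objects commute with filtered colimits. -/
theorem preservesColimitsOfShape_secMod (U : EtOver X) [IsAffine U.obj.left.left] :
    PreservesColimitsOfShape I (SheafOfModules.toSheaf.{u + 1} (OEtRing X) ⋙
      sheafToPresheaf (etTop X) AddCommGrpCat.{u + 1} ⋙
        (evaluation (EtOver X)ᵒᵖ AddCommGrpCat.{u + 1}).obj (op U)) := by
  have := preservesColimitsOfShape_toSheaf (OEtRing X) I
  have := preservesColimitsOfShape_secAb (I := I) U
  exact comp_preservesColimitsOfShape _ _

variable {K : I ⥤ ModEt X} {c : Cocone K} (hc : IsColimit c)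

include hc

/-- Sections of a filtered colimit on an affine object come from a stage. -/
theorem exists_stage_sect (U : EtOver X) [IsAffine U.obj.left.left] (y : sectModEt c.pt U) :
    ∃ (i : I) (x : sectModEt (K.obj i) U), (c.ι.app i).val.app (op U) x = y := by
  have := preservesColimitsOfShape_secMod (I := I) U
  exact Concrete.isColimit_exists_rep _ (isColimitOfPreserves (SheafOfModules.toSheaf.{u + 1} (OEtRing X) ⋙
    sheafToPresheaf (etTop X) AddCommGrpCat.{u + 1} ⋙
      (evaluation (EtOver X)ᵒᵖ AddCommGrpCat.{u + 1}).obj (op U)) hc) y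

/-- Sections of stages which agree in the colimit agree at a later stage. -/
theorem exists_stage_eq_sect (U : EtOver X) [IsAffine U.obj.left.left] {i : I} (x x' : sectModEt (K.obj i) U)
    (h : (c.ι.app i).val.app (op U) x = (c.ι.app i).val.app (op U) x') :
    ∃ (j : I) (f : i ⟶ j), (K.map f).val.app (op U) x = (K.map f).val.app (op U) x' := by
  have := preservesColimitsOfShape_secMod (I := I) U
  obtain ⟨j, f, g, e⟩ := Concrete.isColimit_exists_of_rep_eq _ (isColimitOfPreserves
    (SheafOfModules.toSheaf.{u + 1} (OEtRing X) ⋙ sheafToPresheaf (etTop X) AddCommGrpCat.{u + 1} ⋙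
      (evaluation (EtOver X)ᵒᵖ AddCommGrpCat.{u + 1}).obj (op U)) hc) x x' h
  obtain ⟨k, a, b, hab⟩ : ∃ (k : I) (a : j ⟶ k) (_ : j ⟶ k), f ≫ a = g ≫ a :=
    ⟨_, IsFiltered.coeqHom f g, IsFiltered.coeqHom f g, IsFiltered.coeq_condition f g⟩
  refine ⟨k, f ≫ a, ?_⟩
  have e' := congrArg ((K.map a).val.app (op U)) e
  calc (K.map (f ≫ a)).val.app (op U) x = (K.map a).val.app (op U) ((K.map f).val.app (op U) x) := by
        rw [K.map_comp]; rfl
    _ = (K.map a).val.app (op U) ((K.map g).val.app (op U) x') := e'
    _ = (K.map (f ≫ a)).val.app (op U) x' := by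
        rw [hab, K.map_comp]; rfl

end Groth.Agent.EtCoh7
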