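import Groth.Agent.EtCoh7.Exact

/-!
# Morphisms out of a cartesian module from linear maps of sections on a covering family
-/

set_option backward.isDefEq.respectTransparency false
set_option backward.isDefEq.respectTransparency.types false
set_option linter.style.haveILetI false
set_option linter.unusedSectionVars false
set_option maxHeartbeats 1000000

noncomputable section

universe u

open CategoryTheory CategoryTheory.Limits AlgebraicGeometry Opposite AlgSp TensorProduct

namespace Groth.Agent.EtCoh7

open Groth.Agent.AlgSpQ4.MV Groth.Agent.AlgSpDec Groth.Agent.EtQCoh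

variable {S : Scheme.{u}} {X : Sp S} {G F : ModEt X}

/-- Affine opens of an object. -/
theorem exists_affine_at (T : EtOver X) (x : ↥T.obj.left.left) :
    ∃ (W : EtOver X) (a : W ⟶ T), IsAffine W.obj.left.left ∧ x ∈ Set.range a.hom.left.left := by
  obtain ⟨O, hO, hxO, -⟩ := exists_isAffineOpen_mem_and_subset (U := (⊤ : T.obj.left.left.Opens)) (x := x) trivial
  exact ⟨etOpen T O, etOpenι T O, hO, ⟨x, hxO⟩, rfl⟩

/-- Sections agreeing on affine objects over an object are equal. -/
theorem sect_ext_affine {T : EtOver X} {s t : sectModEt F T}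
    (h : ∀ (W : EtOver X) (a : W ⟶ T), IsAffine W.obj.left.left → res F a s = res F a t) : s = t := by
  choose W a hW hx using exists_affine_at T
  exact glue_ext F W a (fun x => ⟨x, hx x⟩) fun x => h _ _ (hW x)

/-- A linear map of sections on a chart extends to every affine object over the chart. -/
theorem exists_ext_map {E W : EtOver X} [IsAffine W.obj.left.left] (hG : CartAt G E) (b : W ⟶ E)
    (l : sectModEt G E →ₗ[gam E] sectModEt F E) :
    ∃ L : sectModEt G W →ₗ[gam W] sectModEt F W, ∀ g, L (res G b g) = res F b (l g) := by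
  letI := (pb b).toAlgebra
  let e := LinearEquiv.ofBijective (θLin G b) (hG W inferInstance b)
  refine ⟨((θLin F b).comp (l.baseChange (gam W))).comp e.symm.toLinearMap, fun g => ?_⟩
  have he : e.symm (res G b g) = (1 : gam W) ⊗ₜ[gam E] g := by
    rw [LinearEquiv.symm_apply_eq]
    show res G b g = θ G b ((1 : gam W) ⊗ₜ[gam E] g)
    rw [θ_tmul, one_smul]
  show θ F b (l.baseChange (gam W) (e.symm (res G b g))) = _
  rw [he, LinearMap.baseChange_tmul, θ_tmul, one_smul]

/-- The extension of a linear map of sections. -/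
def extMap {E W : EtOver X} [IsAffine W.obj.left.left] (hG : CartAt G E) (b : W ⟶ E)
    (l : sectModEt G E →ₗ[gam E] sectModEt F E) : sectModEt G W →ₗ[gam W] sectModEt F W :=
  (exists_ext_map hG b l).choose

theorem extMap_res {E W : EtOver X} [IsAffine W.obj.left.left] (hG : CartAt G E) (b : W ⟶ E)
    (l : sectModEt G E →ₗ[gam E] sectModEt F E) (g : sectModEt G E) :
    extMap hG b l (res G b g) = res F b (l g) :=
  (exists_ext_map hG b l).choose_spec g

/-- Linear maps agreeing on restrictions of generators are equal. -/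
theorem linearMap_ext_gens {E W : EtOver X} [IsAffine W.obj.left.left] (hG : CartAt G E) (b : W ⟶ E)
    {s : Set (sectModEt G E)} (hs : Submodule.span (gam E) s = ⊤) {M : Type*} [AddCommGroup M] [Module (gam W) M]
    {L L' : sectModEt G W →ₗ[gam W] M} (h : ∀ g ∈ s, L (res G b g) = L' (res G b g)) : L = L' :=
  LinearMap.ext_on (span_res_eq_top hG b hs) (by rintro _ ⟨g, hg, rfl⟩; exact h g hg)

theorem extMap_natural {E W W' : EtOver X} [IsAffine W.obj.left.left] [IsAffine W'.obj.left.left] (hG : CartAt G E)
    (b : W ⟶ E) (h : W' ⟶ W) (l : sectModEt G E →ₗ[gam E] sectModEt F E) (y : sectModEt G W) :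
    res F h (extMap hG b l y) = extMap hG (h ≫ b) l (res G h y) := by
  have hy : y ∈ Submodule.span (gam W) (res G b '' Set.univ) :=
    span_res_eq_top hG b Submodule.span_univ ▸ Submodule.mem_top
  induction hy using Submodule.span_induction with
  | mem z hz =>
    obtain ⟨g, -, rfl⟩ := hz
    rw [extMap_res, ← res_comp, ← res_comp, extMap_res]
  | zero => simp
  | add a c _ _ ha hc => simp only [map_add, ha, hc]
  | smul r a _ ha => simp only [map_smul, res_smul, ha]

theorem app_extMap {F' : ModEt X} (ψ : F ⟶ F') {E W : EtOver X} [IsAffine W.obj.left.left] (hG : CartAt G E)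
    (b : W ⟶ E) (l : sectModEt G E →ₗ[gam E] sectModEt F E) :
    (appLin ψ W).comp (extMap hG b l) = extMap hG b ((appLin ψ E).comp l) :=
  linearMap_ext_gens hG b Submodule.span_univ fun g _ => by
    rw [LinearMap.comp_apply, extMap_res, extMap_res, LinearMap.comp_apply, appLin_res]

theorem extMap_app {E W : EtOver X} [IsAffine W.obj.left.left] (hG : CartAt G E) (b : W ⟶ E) (φ : G ⟶ F) :
    extMap hG b (appLin φ E) = appLin φ W :=
  linearMap_ext_gens hG b Submodule.span_univ fun g _ => by rw [extMap_res, appLin_res]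

section Glue

variable {ι : Type u} (E : ι → EtOver X)
  (hcov : ∀ x : Points X, ∃ (i : ι) (e : ↥(E i).obj.left.left), Points.ofPt (E i).obj.hom e = x)
  (hE : ∀ i, IsAffine (E i).obj.left.left) (hG : ∀ i, CartAt G (E i))

/-- The affine objects over an object mapping to a chart. -/
structure ChartMap (T : EtOver X) where
  i : ι
  W : EtOver X
  hW : IsAffine W.obj.left.left
  a : W ⟶ T
  b : W ⟶ E i

include hcov hE in
theorem chartMap_cover (T : EtOver X) (x : ↥T.obj.left.left) : ∃ p : ChartMap E T, x ∈ Set.range p.a.hom.left.left := by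
  obtain ⟨i, e, he⟩ := hcov (Points.ofPt T.obj.hom x)
  obtain ⟨W, hW, g, g', w, hg, -⟩ := exists_common_chart x e he.symm
  exact ⟨⟨i, W, hW, g, g'⟩, w, hg⟩

include hcov hE hG in
/-- Morphisms out of a cartesian module are determined by generators on a covering family. -/
theorem hom_ext_gens {s : ∀ i, Set (sectModEt G (E i))} (hs : ∀ i, Submodule.span (gam (E i)) (s i) = ⊤)
    {φ ψ : G ⟶ F} (h : ∀ i, ∀ g ∈ s i, appLin φ (E i) g = appLin ψ (E i) g) : φ = ψ := by
  refine SheafOfModules.hom_ext (PresheafOfModules.hom_ext fun V => ModuleCat.hom_ext (LinearMap.ext fun y => ?_))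
  obtain ⟨T⟩ := V
  show appLin φ T y = appLin ψ T y
  refine glue_ext F (fun p : ChartMap E T => p.W) (fun p => p.a) (chartMap_cover E hcov hE T) fun p => ?_
  rw [← appLin_res, ← appLin_res]
  have := p.hW
  have e : appLin φ p.W = appLin ψ p.W := linearMap_ext_gens (hG p.i) p.b (hs p.i) fun g hg => by
    rw [appLin_res, appLin_res, h p.i g hg]
  rw [e]

variable (l : ∀ i, sectModEt G (E i) →ₗ[gam (E i)] sectModEt F (E i))

/-- The value of the glued morphism at a section. -/
def IsHomVal {T : EtOver X} (y : sectModEt G T) (z : sectModEt F T) : Prop :=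
  ∀ p : ChartMap E T, res F p.a z = (haveI := p.hW; extMap (hG p.i) p.b (l p.i) (res G p.a y))

variable (hcomp : ∀ (i j : ι) (W : EtOver X) [IsAffine W.obj.left.left] (a : W ⟶ E i) (b : W ⟶ E j),
  extMap (hG i) a (l i) = extMap (hG j) b (l j))

include hcov hE hcomp in
theorem existsUnique_isHomVal {T : EtOver X} (y : sectModEt G T) : ∃! z, IsHomVal E hG l y z := by
  obtain ⟨z, hz⟩ := exists_glue F (fun p : ChartMap E T => p.W) (fun p => p.a) (chartMap_cover E hcov hE T)
    (fun p => (haveI := p.hW; extMap (hG p.i) p.b (l p.i) (res G p.a y))) fun p q V a b e => by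
      refine sect_ext_affine fun W h hW => ?_
      have := hW; have := p.hW; have := q.hW
      rw [← res_comp, ← res_comp, extMap_natural, extMap_natural, ← res_comp, ← res_comp,
        hcomp p.i q.i W ((h ≫ a) ≫ p.b) ((h ≫ b) ≫ q.b), Category.assoc h a p.a, Category.assoc h b q.a, e]
  refine ⟨z, fun p => hz p, fun z' hz' => ?_⟩
  exact glue_ext F (fun p : ChartMap E T => p.W) (fun p => p.a) (chartMap_cover E hcov hE T)
    fun p => (hz' p).trans (hz p).symm

/-- The glued value. -/
def homVal {T : EtOver X} (y : sectModEt G T) : sectModEt F T :=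
  (existsUnique_isHomVal E hcov hE hG l hcomp y).choose

theorem isHomVal_homVal {T : EtOver X} (y : sectModEt G T) : IsHomVal E hG l y (homVal E hcov hE hG l hcomp y) :=
  (existsUnique_isHomVal E hcov hE hG l hcomp y).choose_spec.1

theorem homVal_eq {T : EtOver X} {y : sectModEt G T} {z : sectModEt F T} (h : IsHomVal E hG l y z) :
    homVal E hcov hE hG l hcomp y = z :=
  ((existsUnique_isHomVal E hcov hE hG l hcomp y).choose_spec.2 z h).symm

theorem homVal_add {T : EtOver X} (y y' : sectModEt G T) :
    homVal E hcov hE hG l hcomp (y + y') = homVal E hcov hE hG l hcomp y + homVal E hcov hE hG l hcomp y' :=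
  homVal_eq E hcov hE hG l hcomp fun p => by
    rw [map_add, map_add, map_add, isHomVal_homVal E hcov hE hG l hcomp y p,
      isHomVal_homVal E hcov hE hG l hcomp y' p]

theorem homVal_smul {T : EtOver X} (r : gam T) (y : sectModEt G T) :
    homVal E hcov hE hG l hcomp (r • y) = r • homVal E hcov hE hG l hcomp y :=
  homVal_eq E hcov hE hG l hcomp fun p => by
    rw [res_smul, res_smul, map_smul, isHomVal_homVal E hcov hE hG l hcomp y p]

theorem homVal_res {T T' : EtOver X} (f : T' ⟶ T) (y : sectModEt G T) :
    homVal E hcov hE hG l hcomp (res G f y) = res F f (homVal E hcov hE hG l hcomp y) :=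
  homVal_eq E hcov hE hG l hcomp fun p => by
    rw [← res_comp, ← res_comp]
    exact isHomVal_homVal E hcov hE hG l hcomp y ⟨p.i, p.W, p.hW, p.a ≫ f, p.b⟩

/-- The glued morphism. -/
def glueHom : G ⟶ F :=
  ⟨PresheafOfModules.homMk
    { app := fun T => AddCommGrpCat.ofHom (AddMonoidHom.mk' (fun y => homVal E hcov hE hG l hcomp y)
        fun y y' => homVal_add E hcov hE hG l hcomp y y')
      naturality := fun T T' f => by
        ext y
        exact homVal_res E hcov hE hG l hcomp f.unop y }
    fun T r y => homVal_smul E hcov hE hG l hcomp r.down y⟩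

theorem glueHom_app (i : ι) (y : sectModEt G (E i)) :
    appLin (glueHom E hcov hE hG l hcomp) (E i) y = l i y := by
  show homVal E hcov hE hG l hcomp y = l i y
  refine homVal_eq E hcov hE hG l hcomp fun p => ?_
  have := p.hW
  rw [hcomp p.i i p.W p.b p.a, extMap_res]

end Glue

end Groth.Agent.EtCoh7
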