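import Groth.Agent.EtCoh7.GlueHom
import Groth.Agent.EtCoh7.FiltSect
import Mathlib.CategoryTheory.Limits.Types.Filtered
import Mathlib.Algebra.Module.FinitePresentation

/-!
# Morphisms out of finitely presented modules commute with filtered colimits
-/

set_option backward.isDefEq.respectTransparency false
set_option backward.isDefEq.respectTransparency.types false
set_option linter.style.haveILetI false
set_option linter.unusedSectionVars false
set_option maxHeartbeats 1000000

noncomputable section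

universe u

open CategoryTheory CategoryTheory.Limits AlgebraicGeometry Opposite AlgSp TensorProduct

namespace Groth.Agent.EtCoh7

open Groth.Agent.AlgSpQ4.MV Groth.Agent.AlgSpDec Groth.Agent.EtQCoh

variable {S : Scheme.{u}} {X : Sp S}

/-- Modules with finite presentations have finitely presented sections on affine objects over the presenting one. -/
theorem finitePresentation_of_pres {M : ModEt X} {U : EtOver X} (P : Pres (M.over U)) [Finite P.I] [Finite P.J]
    {T : EtOver X} [IsAffine T.obj.left.left] (a : T ⟶ U) : Module.FinitePresentation (gam T) (sectModEt M T) := by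
  let eI := LinearEquiv.ofBijective (ocomb P.I a) ⟨ocomb_injective P.I a, ocomb_surjective P.I a⟩
  let L : (P.J →₀ gam T) →ₗ[gam T] (P.I →₀ gam T) :=
    (eI.symm.toLinearMap.comp (oapp P.φ a)).comp (ocomb P.J a)
  have hrels : rels P a = LinearMap.range L := by
    ext c
    constructor
    · intro hc
      obtain ⟨z, hz⟩ := hc
      obtain ⟨w, rfl⟩ := ocomb_surjective P.J a z
      refine ⟨w, ?_⟩
      show eI.symm (oapp P.φ a (ocomb P.J a w)) = c
      rw [LinearEquiv.symm_apply_eq]
      exact hz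
    · rintro ⟨w, rfl⟩
      exact ⟨ocomb P.J a w, (eI.apply_symm_apply _).symm⟩
  have hfg : (rels P a).FG := by
    rw [hrels]
    exact Module.Finite.fg_top.map L |> fun h => by rwa [Submodule.map_top] at h
  have : Module.FinitePresentation (gam T) ((P.I →₀ gam T) ⧸ rels P a) :=
    Module.finitePresentation_of_surjective (rels P a).mkQ (Submodule.mkQ_surjective _)
      (by rwa [Submodule.ker_mkQ])
  let φ : ((P.I →₀ gam T) ⧸ rels P a) ≃ₗ[gam T] sectModEt M T :=
    LinearEquiv.ofBijective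
      { toFun := phi P a, map_add' := map_add _, map_smul' := fun r x => map_smul (phi P a) r x }
      (phi_bijective P a)
  exact Module.FinitePresentation.of_equiv φ

/-- A quasi-compact space is covered by finitely many affine objects with finitely presented sections. -/
theorem exists_finite_fp_cover (hqc : IsQuasiCompactSp X) (G : ModEt X) [G.IsFinitePresentation] :
    ∃ (ι : Type u) (_ : Finite ι) (E : ι → EtOver X), (∀ i, IsAffine (E i).obj.left.left) ∧
      (∀ i, Module.FinitePresentation (gam (E i)) (sectModEt G (E i))) ∧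
      ∀ x : Points X, ∃ (i : ι) (e : ↥(E i).obj.left.left), Points.ofPt (E i).obj.hom e = x := by
  obtain ⟨q, hq⟩ := SheafOfModules.IsFinitePresentation.exists_quasicoherentData G
  obtain ⟨U, p, hp, hps, hU⟩ := hqc
  let A : EtOver X := EtOver.mk p hp
  have hloc : ∀ x : ↥A.obj.left.left, ∃ (W : EtOver X) (a : W ⟶ A), x ∈ Set.range a.hom.left.left ∧
      IsAffine W.obj.left.left ∧ Module.FinitePresentation (gam W) (sectModEt G W) := fun x => by
    obtain ⟨O, a, hO, ⟨o, rfl⟩⟩ := exists_affine_at A x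
    obtain ⟨ι, hι, Y, hY, g, hm, hc⟩ := exists_finite_affine_cover (T := O) (Sieve.ofObjects q.X O) (q.coversTop O)
    obtain ⟨i, w, hw⟩ := hc o
    obtain ⟨k, ⟨f⟩⟩ := (Sieve.mem_ofObjects_iff ..).1 (hm i)
    have := hY i
    have h1 : Finite (Pres.ofPresentation (q.presentation k)).I :=
      ((hq.isFinite_presentation k).isFiniteType_generators).finite
    have h2 : Finite (Pres.ofPresentation (q.presentation k)).J :=
      ((hq.isFinite_presentation k).isFiniteType_relations).finite
    exact ⟨Y i, g i ≫ a, ⟨w, (congrArg a.hom.left.left hw).trans rfl⟩, hY i,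
      finitePresentation_of_pres (Pres.ofPresentation (q.presentation k)) f⟩
  choose F g hx hF hFP using hloc
  have hopen : ∀ a, IsOpen (Set.range (g a).hom.left.left) := fun a => by
    have : Etale (g a).hom.left.left := EtOver.etale_left _
    exact (g a).hom.left.left.isOpenMap.isOpen_range
  have hU' : CompactSpace ↥A.obj.left.left := hU
  obtain ⟨s, hs⟩ := (isCompact_univ (X := ↥A.obj.left.left)).elim_finite_subcover _ hopen
    fun a _ => Set.mem_iUnion.2 ⟨a, hx a⟩
  refine ⟨↥s, Finite.of_fintype _, fun a => F a.1, fun a => hF a.1, fun a => hFP a.1, fun x => ?_⟩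
  obtain ⟨a, ha⟩ := AlgSpLib.surjective_ofPt hps x
  have ha' := hs (Set.mem_univ a)
  simp only [Set.mem_iUnion] at ha'
  obtain ⟨b, hb, e, he⟩ := ha'
  refine ⟨⟨b, hb⟩, e, (ofPt_hom (g b) e).trans ?_⟩
  rw [he]
  exact ha

variable {I : Type (u + 1)} [Preorder I] [IsDirectedOrder I] [Nonempty I] {K : I ⥤ ModEt X} {c : Cocone K}
  (hc : IsColimit c)

/-- Finitely many stages have a common bound. -/
theorem exists_bound_stage {α : Type*} [Finite α] (j : α → I) : ∃ k, ∀ a, j a ≤ k := Finite.exists_le j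

/-- A transition map of sections. -/
abbrev tr {i j : I} (h : i ≤ j) (E : EtOver X) : sectModEt (K.obj i) E →ₗ[gam E] sectModEt (K.obj j) E :=
  appLin (K.map (homOfLE h)) E

/-- A stage map to the colimit. -/
abbrev toC (c : Cocone K) (i : I) (E : EtOver X) : sectModEt (K.obj i) E →ₗ[gam E] sectModEt c.pt E :=
  appLin (c.ι.app i) E

theorem toC_tr {i j : I} (h : i ≤ j) (E : EtOver X) (x : sectModEt (K.obj i) E) :
    toC c j E (tr h E x) = toC c i E x :=
  congrArg (fun ψ => appLin ψ E x) (c.w (homOfLE h))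

theorem tr_tr {i j k : I} (h : i ≤ j) (h' : j ≤ k) (E : EtOver X) (x : sectModEt (K.obj i) E) :
    tr (K := K) h' E (tr h E x) = tr (h.trans h') E x := by
  show appLin (K.map (homOfLE h')) E (appLin (K.map (homOfLE h)) E x) = appLin (K.map (homOfLE (h.trans h'))) E x
  rw [← homOfLE_comp h h', K.map_comp]
  rfl

include hc in
/-- Linear maps from a finitely presented module of sections to a colimit come from a stage. -/
theorem exists_stage_linearMap {E : EtOver X} [IsAffine E.obj.left.left] {P : Type (u + 1)} [AddCommGroup P]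
    [Module (gam E) P] [Module.FinitePresentation (gam E) P] (φ : P →ₗ[gam E] sectModEt c.pt E) :
    ∃ (i : I) (l : P →ₗ[gam E] sectModEt (K.obj i) E), (toC c i E).comp l = φ := by
  obtain ⟨n, R, e, hR⟩ := Module.FinitePresentation.exists_fin (gam E) P
  choose i x hx using fun k : Fin n => exists_stage_sect hc E (φ (e.symm (R.mkQ (Pi.single k 1))))
  obtain ⟨j, hj⟩ := exists_bound_stage i
  let L : (Fin n → gam E) →ₗ[gam E] sectModEt (K.obj j) E :=
    Fintype.linearCombination (gam E) fun k => tr (hj k) E (x k)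
  have hL : (toC c j E).comp L = φ.comp (e.symm.toLinearMap.comp R.mkQ) := by
    refine LinearMap.pi_ext' fun k => LinearMap.ext_ring ?_
    show toC c j E (L (Pi.single k 1)) = φ (e.symm (R.mkQ (Pi.single k 1)))
    rw [Fintype.linearCombination_apply_single, one_smul, toC_tr]
    exact hx k
  obtain ⟨m, r, hr⟩ := Submodule.fg_iff_exists_fin_generating_family.1 hR
  have hz : ∀ k : Fin m, ∃ (j' : I) (h : j ≤ j'), tr (K := K) h E (L (r k)) = 0 := fun k => by
    have h0 : toC c j E (L (r k)) = toC c j E 0 := by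
      rw [map_zero, ← LinearMap.comp_apply, hL]
      show φ (e.symm (R.mkQ (r k))) = 0
      rw [Submodule.mkQ_apply, (Submodule.Quotient.mk_eq_zero R).2 (hr ▸ Submodule.subset_span ⟨k, rfl⟩),
        map_zero, map_zero]
    obtain ⟨j', f, hf⟩ := exists_stage_eq_sect hc E _ _ h0
    exact ⟨j', leOfHom f, hf.trans (map_zero (appLin (K.map f) E))⟩
  choose j' hj' hz using hz
  obtain ⟨j₂, hj₂⟩ := exists_bound_stage fun k : Option (Fin m) => k.elim j j'
  have hle : j ≤ j₂ := hj₂ none
  have hker : R ≤ LinearMap.ker ((tr hle E).comp L) := by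
    rw [← hr, Submodule.span_le]
    rintro _ ⟨k, rfl⟩
    show tr hle E (L (r k)) = 0
    rw [← tr_tr (hj' k) (hj₂ (some k)), hz, map_zero]
  refine ⟨j₂, (R.liftQ _ hker).comp e.toLinearMap, LinearMap.ext fun p => ?_⟩
  obtain ⟨v, hv⟩ := R.mkQ_surjective (e p)
  show toC c j₂ E (R.liftQ _ hker (e p)) = φ p
  rw [← hv, Submodule.mkQ_apply, Submodule.liftQ_apply, LinearMap.comp_apply, toC_tr, ← LinearMap.comp_apply, hL]
  show φ (e.symm (R.mkQ v)) = φ p
  rw [hv, e.symm_apply_apply]

variable (hqc : IsQuasiCompactSp X) [QuasiSeparatedSpace ↥S] (hqs : IsQuasiSeparatedSp X) (G : ModEt X)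
  [G.IsFinitePresentation]

include hc hqc in
/-- Morphisms to a stage which agree in the colimit agree at a later stage. -/
theorem exists_stage_eq_hom {i : I} (φ ψ : G ⟶ K.obj i) (h : φ ≫ c.ι.app i = ψ ≫ c.ι.app i) :
    ∃ (j : I) (f : i ⟶ j), φ ≫ K.map f = ψ ≫ K.map f := by
  obtain ⟨κ, hκ, E, hE, hFP, hcov⟩ := exists_finite_fp_cover hqc G
  choose s hs using fun k => (haveI := hFP k; (Module.Finite.fg_top : (⊤ : Submodule (gam (E k)) (sectModEt G (E k))).FG))
  have hz : ∀ a : Σ k, ↥(s k), ∃ (j : I) (f : i ⟶ j),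
      appLin (K.map f) (E a.1) (appLin φ (E a.1) a.2.1) = appLin (K.map f) (E a.1) (appLin ψ (E a.1) a.2.1) := fun a => by
    have := hE a.1
    exact exists_stage_eq_sect hc (E a.1) _ _ (congrArg (fun χ => appLin χ (E a.1) a.2.1) h)
  choose j f hf using hz
  obtain ⟨j₂, hj₂⟩ := exists_bound_stage fun a : Option (Σ k, ↥(s k)) => a.elim i j
  have hle : i ≤ j₂ := hj₂ none
  refine ⟨j₂, homOfLE hle, hom_ext_gens E hcov hE (fun k => (haveI := hE k; cartAt G (E k))) hs fun k g hg => ?_⟩
  show tr hle (E k) (appLin φ (E k) g) = tr hle (E k) (appLin ψ (E k) g)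
  rw [← tr_tr (leOfHom (f ⟨k, g, hg⟩)) (hj₂ (some ⟨k, g, hg⟩)), ← tr_tr (leOfHom (f ⟨k, g, hg⟩)) (hj₂ (some ⟨k, g, hg⟩))]
  exact congrArg _ (hf ⟨k, g, hg⟩)

include hc hqc hqs in
/-- Morphisms to the colimit come from a stage. -/
theorem exists_stage_hom (φ : G ⟶ c.pt) : ∃ (i : I) (ψ : G ⟶ K.obj i), ψ ≫ c.ι.app i = φ := by
  classical
  obtain ⟨κ, hκ, E, hE, hFP, hcov⟩ := exists_finite_fp_cover hqc G
  have hG : ∀ k, CartAt G (E k) := fun k => (haveI := hE k; cartAt G (E k))
  choose i l₀ hl₀ using fun k => (haveI := hE k; haveI := hFP k; exists_stage_linearMap hc (appLin φ (E k)))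
  obtain ⟨j, hj⟩ := exists_bound_stage i
  let l : ∀ k, sectModEt G (E k) →ₗ[gam (E k)] sectModEt (K.obj j) (E k) := fun k => (tr (hj k) (E k)).comp (l₀ k)
  have hl : ∀ k, (toC c j (E k)).comp (l k) = appLin φ (E k) := fun k => LinearMap.ext fun g => by
    show toC c j (E k) (tr (hj k) (E k) (l₀ k g)) = _
    rw [toC_tr]
    exact congrArg (fun L : sectModEt G (E k) →ₗ[gam (E k)] sectModEt c.pt (E k) => L g) (hl₀ k)
  choose s hs using fun k => (haveI := hFP k; (Module.Finite.fg_top : (⊤ : Submodule (gam (E k)) (sectModEt G (E k))).FG))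
  choose μ hμ V hV a b hlift using fun p : κ × κ =>
    (haveI := hE p.1; haveI := hE p.2; exists_finite_refinement hqs (E p.1) (E p.2))
  have hz : ∀ t : Σ p : κ × κ, Σ _ : μ p, ↥(s p.1), ∃ (j' : I) (f : j ⟶ j'),
      appLin (K.map f) (V t.1 t.2.1) (haveI := hV t.1 t.2.1; extMap (hG t.1.1) (a t.1 t.2.1) (l t.1.1)
        (res G (a t.1 t.2.1) t.2.2.1)) =
      appLin (K.map f) (V t.1 t.2.1) (haveI := hV t.1 t.2.1; extMap (hG t.1.2) (b t.1 t.2.1) (l t.1.2)
        (res G (a t.1 t.2.1) t.2.2.1)) := fun t => by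
    have := hV t.1 t.2.1
    refine exists_stage_eq_sect hc (V t.1 t.2.1) _ _ ?_
    show ((toC c j _).comp (extMap (hG t.1.1) (a t.1 t.2.1) (l t.1.1))) _ =
      ((toC c j _).comp (extMap (hG t.1.2) (b t.1 t.2.1) (l t.1.2))) _
    rw [app_extMap, app_extMap, hl, hl, extMap_app, extMap_app]
  choose j' f hf using hz
  have : ∀ p, Finite (μ p) := hμ
  obtain ⟨j₂, hj₂⟩ := exists_bound_stage fun t : Option (Σ p : κ × κ, Σ _ : μ p, ↥(s p.1)) => t.elim j j'
  have hle : j ≤ j₂ := hj₂ none
  let l' : ∀ k, sectModEt G (E k) →ₗ[gam (E k)] sectModEt (K.obj j₂) (E k) := fun k => (tr hle (E k)).comp (l k)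
  have hcomp : ∀ (k₁ k₂ : κ) (W : EtOver X) [IsAffine W.obj.left.left] (u : W ⟶ E k₁) (v : W ⟶ E k₂),
      extMap (hG k₁) u (l' k₁) = extMap (hG k₂) v (l' k₂) := by
    intro k₁ k₂ W _ u v
    refine LinearMap.ext fun y => ?_
    choose W' h m lam hW' hw hla hlb using fun w => hlift (k₁, k₂) W u v w
    refine glue_ext (K.obj j₂) W' h (fun w => ⟨w, hw w⟩) fun w => ?_
    have := hW' w
    have := hV (k₁, k₂) (m w)
    rw [extMap_natural, extMap_natural, ← hla w, ← hlb w]
    have key : extMap (hG k₁) (a (k₁, k₂) (m w)) (l' k₁) = extMap (hG k₂) (b (k₁, k₂) (m w)) (l' k₂) := by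
      refine linearMap_ext_gens (hG k₁) (a (k₁, k₂) (m w)) (hs k₁) fun g hg => ?_
      rw [← app_extMap (K.map (homOfLE hle)), ← app_extMap (K.map (homOfLE hle))]
      show tr hle _ _ = tr hle _ _
      let t : Σ p : κ × κ, Σ _ : μ p, ↥(s p.1) := ⟨(k₁, k₂), m w, g, hg⟩
      rw [← tr_tr (leOfHom (f t)) (hj₂ (some t)), ← tr_tr (leOfHom (f t)) (hj₂ (some t))]
      exact congrArg _ (hf t)
    have key' : extMap (hG k₁) (lam w ≫ a (k₁, k₂) (m w)) (l' k₁) =
        extMap (hG k₂) (lam w ≫ b (k₁, k₂) (m w)) (l' k₂) := by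
      refine linearMap_ext_gens (hG k₁) (lam w ≫ a (k₁, k₂) (m w)) (hs k₁) fun g hg => ?_
      rw [res_comp, ← extMap_natural, ← extMap_natural, key]
    rw [key']
  refine ⟨j₂, glueHom E hcov hE hG l' hcomp, hom_ext_gens E hcov hE hG (s := fun k => Set.univ)
    (fun k => Submodule.span_univ) fun k g _ => ?_⟩
  show toC c j₂ (E k) (appLin (glueHom E hcov hE hG l' hcomp) (E k) g) = appLin φ (E k) g
  rw [glueHom_app]
  show toC c j₂ (E k) (tr hle (E k) (l k g)) = _
  rw [toC_tr]
  exact congrArg (fun L : sectModEt G (E k) →ₗ[gam (E k)] sectModEt c.pt (E k) => L g) (hl k)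

include hqc hqs in
theorem preservesColimitsOfShape_coyoneda :
    PreservesColimitsOfShape I (coyoneda.obj (op G)) := by
  refine ⟨fun {K} => ⟨fun {c} hc => ⟨Types.FilteredColimit.isColimitOf _ _ (fun φ => ?_) fun i j x y h => ?_⟩⟩⟩
  · obtain ⟨i, ψ, hψ⟩ := exists_stage_hom hc hqc hqs G φ
    exact ⟨i, ψ, hψ.symm⟩
  · obtain ⟨k, hik, hjk⟩ := exists_ge_ge i j
    let f := homOfLE hik
    let g := homOfLE hjk
    obtain ⟨m, e, he⟩ := exists_stage_eq_hom hc hqc G (x ≫ K.map f) (y ≫ K.map g) (by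
      rw [Category.assoc, Category.assoc, c.w f, c.w g]
      exact h)
    refine ⟨m, f ≫ e, g ≫ e, ?_⟩
    show x ≫ K.map (f ≫ e) = y ≫ K.map (g ≫ e)
    rw [K.map_comp, K.map_comp, ← Category.assoc, ← Category.assoc, he]

end Groth.Agent.EtCoh7
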