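import Groth.Agent.EtQCoh.Main
import Groth.Agent.EtQCoh.WeakAssPts
import Mathlib.RingTheory.Noetherian.Basic
import Mathlib.AlgebraicGeometry.Noetherian

/-!
# Noetherian affine objects of the small etale site of a locally Noetherian space
-/

set_option backward.isDefEq.respectTransparency false
set_option backward.isDefEq.respectTransparency.types false
set_option linter.style.haveILetI false
set_option maxHeartbeats 1000000

universe u

open CategoryTheory CategoryTheory.Limits AlgebraicGeometry Opposite AlgSp TensorProduct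

namespace Groth.Agent.EtCoh7

open Groth.Agent.AlgSpQ4.MV Groth.Agent.AlgSpDec Groth.Agent.EtQCoh

variable {S : Scheme.{u}} {X : Sp S}

/-- An affine object with Noetherian ring of functions. -/
def IsNoeth (E : EtOver X) : Prop := IsAffine E.obj.left.left ∧ IsNoetherianRing (gam E)

theorem IsNoeth.isAffine {E : EtOver X} (h : IsNoeth E) : IsAffine E.obj.left.left := h.1

theorem IsNoeth.isNoetherianRing {E : EtOver X} (h : IsNoeth E) : IsNoetherianRing (gam E) := h.2

theorem IsNoeth.of_hom {E F : EtOver X} (hE : IsNoeth E) (hF : IsAffine F.obj.left.left) (g : F ⟶ E) :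
    IsNoeth F := by
  have := hE.1; have := hE.2
  have : Etale g.hom.left.left := EtOver.etale_left g
  have h : (pb g).FiniteType :=
    HasRingHomProperty.appTop @LocallyOfFiniteType g.hom.left.left inferInstance
  refine ⟨hF, ?_⟩
  let := (pb g).toAlgebra
  have : Algebra.FiniteType (gam E) (gam F) := h
  exact Algebra.FiniteType.isNoetherianRing (gam E) (gam F)

/-- Affine opens of locally Noetherian objects are Noetherian affine objects. -/
theorem isNoeth_etOpen (E : EtOver X) [IsLocallyNoetherian E.obj.left.left] (O : E.obj.left.left.Opens)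
    (hO : IsAffineOpen O) : IsNoeth (etOpen E O) := by
  refine ⟨(hO : IsAffine O.toScheme), ?_⟩
  have := IsLocallyNoetherian.component_noetherian ⟨O, hO⟩
  exact isNoetherianRing_of_ringEquiv _ O.topIso.symm.commRingCatIsoToRingEquiv

/-- Objects with locally Noetherian scheme are covered by Noetherian affine objects. -/
theorem exists_noeth_through (E : EtOver X) [IsLocallyNoetherian E.obj.left.left] (e : ↥E.obj.left.left) :
    ∃ (F : EtOver X) (g : F ⟶ E) (f : ↥F.obj.left.left), IsNoeth F ∧ g.hom.left.left f = e := by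
  obtain ⟨O, hO, heO, -⟩ := exists_isAffineOpen_mem_and_subset
    (U := (⊤ : E.obj.left.left.Opens)) (x := e) trivial
  exact ⟨etOpen E O, etOpenι E O, ⟨e, heO⟩, isNoeth_etOpen E O hO, rfl⟩

theorem exists_noeth_at_of_chart (A T : EtOver X) [IsLocallyNoetherian A.obj.left.left] (x : ↥T.obj.left.left)
    (a : ↥A.obj.left.left) (h : Points.ofPt T.obj.hom x = Points.ofPt A.obj.hom a) :
    ∃ (F : EtOver X) (g : F ⟶ T), IsNoeth F ∧ x ∈ Set.range g.hom.left.left := by
  obtain ⟨r, hr₁, hr₂⟩ := AlgSpLib.exists_ofPt_of_eq (T.property.rep.isPullback' A.obj.hom) h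
  have : Etale (EtOver.prodFst A T).hom.left.left := EtOver.etale_left _
  have : IsLocallyNoetherian (EtOver.prodObj A T).obj.left.left :=
    LocallyOfFiniteType.isLocallyNoetherian (EtOver.prodFst A T).hom.left.left
  obtain ⟨F, g, f, hF, hf⟩ := exists_noeth_through (EtOver.prodObj A T) r
  exact ⟨F, g ≫ EtOver.prodSnd A T, hF, f, (congrArg (EtOver.prodSnd A T).hom.left.left hf).trans hr₁⟩

/-- Every object of a locally Noetherian space is covered by Noetherian affine objects. -/
theorem exists_noeth_at (hX : IsLocNoethSp X) (T : EtOver X) (x : ↥T.obj.left.left) :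
    ∃ (F : EtOver X) (g : F ⟶ T), IsNoeth F ∧ x ∈ Set.range g.hom.left.left := by
  obtain ⟨U, p, hp, hps, hU⟩ := hX
  obtain ⟨a, ha⟩ := AlgSpLib.surjective_ofPt hps (Points.ofPt T.obj.hom x)
  have : IsLocallyNoetherian (EtOver.mk p hp).obj.left.left := hU
  exact exists_noeth_at_of_chart (EtOver.mk p hp) T x a ha.symm

/-- A covering has a refinement by finitely many Noetherian affine objects. -/
theorem IsNoeth.exists_cover {T : EtOver X} (hT : IsNoeth T) (R : Sieve T) (hR : R ∈ etTop X T) :
    ∃ (ι : Type u) (_ : Finite ι) (Y : ι → EtOver X) (_ : ∀ i, IsNoeth (Y i)) (g : ∀ i, Y i ⟶ T),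
      (∀ i, R (g i)) ∧ ∀ x : ↥T.obj.left.left, ∃ i, x ∈ Set.range (g i).hom.left.left := by
  have := hT.1
  obtain ⟨ι, hι, Y, hY, g, h₁, h₂⟩ := exists_finite_affine_cover R hR
  exact ⟨ι, hι, Y, fun i => hT.of_hom (hY i) (g i), g, h₁, h₂⟩

/-- A property holding on a refinement of every Noetherian affine object holds on a covering. -/
theorem coversTop_of_noeth (hX : IsLocNoethSp X) (P : EtOver X → Prop)
    (hP : ∀ E : EtOver X, IsNoeth E → ∀ x : ↥E.obj.left.left,
      ∃ (F : EtOver X) (g : F ⟶ E), P F ∧ x ∈ Set.range g.hom.left.left) :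
    (etTop X).CoversTop fun i : {F : EtOver X // P F} => i.1 := by
  intro T
  have h : ∀ x : ↥T.obj.left.left, ∃ (F : EtOver X) (g : F ⟶ T), P F ∧ x ∈ Set.range g.hom.left.left := fun x => by
    obtain ⟨E, g, hE, e, rfl⟩ := exists_noeth_at hX T x
    obtain ⟨F, g', hF, f, rfl⟩ := hP E hE e
    exact ⟨F, g' ≫ g, hF, f, rfl⟩
  choose F g hF hx using h
  refine (etTop X).superset_covering ?_ (AlgSp.ofArrows_mem_etTop F g fun x => ⟨x, hx x⟩)
  rintro V f ⟨W, a, b, hb, rfl⟩
  obtain ⟨x⟩ := hb
  exact ⟨⟨F x, hF x⟩, ⟨a⟩⟩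

end Groth.Agent.EtCoh7
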