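import Groth.Agent.EtCoh7.Sect
import Groth.Agent.EtCoh7.Noeth

/-!
# Modules with local finite presentations by sections
-/

set_option backward.isDefEq.respectTransparency false
set_option backward.isDefEq.respectTransparency.types false
set_option linter.style.haveILetI false
set_option maxHeartbeats 800000

universe u

open CategoryTheory CategoryTheory.Limits AlgebraicGeometry Opposite AlgSp TensorProduct

namespace Groth.Agent.EtCoh7

open Groth.Agent.AlgSpQ4.MV Groth.Agent.AlgSpDec Groth.Agent.EtQCoh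

variable {S : Scheme.{u}} {X : Sp S}

/-- Finitely many sections over `F` with finitely many relations generate locally all sections and all relations. -/
structure LocPres (M : ModEt X) (F : EtOver X) where
  n : ℕ
  m : ℕ
  c : Fin n → sectModEt M F
  r : Fin m → Fin n → gam F
  comp : ∀ j, ∑ i, r j i • c i = 0
  gen : ∀ (T : EtOver X) [IsAffine T.obj.left.left] (a : T ⟶ F) (y : sectModEt M T),
    ∃ (ι : Type u) (Y : ι → EtOver X) (g : ∀ k, Y k ⟶ T),
      (∀ x : ↥T.obj.left.left, ∃ k, x ∈ Set.range (g k).hom.left.left) ∧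
        ∀ k, res M (g k) y ∈ Submodule.span (gam (Y k)) (Set.range fun i => res M (g k ≫ a) (c i))
  rel : ∀ (T : EtOver X) [IsAffine T.obj.left.left] (a : T ⟶ F) (v : Fin n → gam T),
    ∑ i, v i • res M a (c i) = 0 →
    ∃ (ι : Type u) (Y : ι → EtOver X) (g : ∀ k, Y k ⟶ T),
      (∀ x : ↥T.obj.left.left, ∃ k, x ∈ Set.range (g k).hom.left.left) ∧
        ∀ k, (fun i => pb (g k) (v i)) ∈
          Submodule.span (gam (Y k)) (Set.range fun j => fun i => pb (g k ≫ a) (r j i))

theorem ores_self {U : EtOver X} (N : ModEtOn U) {T : EtOver X} {a : T ⟶ U} (x : osect N a)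
    {V : EtOver X} (h : V ⟶ T) {b : V ⟶ U} (w : h ≫ a = b) :
    ores N h w x = N.val.map (Over.homMk h w : Over.mk b ⟶ Over.mk a).op x := rfl

/-- A morphism of modules over an object which is locally surjective on affine objects is an epimorphism. -/
theorem epi_of_local {U : EtOver X} {N N' : ModEtOn U} (φ : N ⟶ N')
    (h : ∀ (T : EtOver X) [IsAffine T.obj.left.left] (a : T ⟶ U) (y : osect N' a),
      ∃ (ι : Type u) (Y : ι → EtOver X) (g : ∀ k, Y k ⟶ T),
        (∀ x : ↥T.obj.left.left, ∃ k, x ∈ Set.range (g k).hom.left.left) ∧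
          ∀ k, ∃ z : osect N (g k ≫ a), oapp φ _ z = ores N' (g k) rfl y) : Epi φ := by
  refine ⟨fun {Z} p q e => SheafOfModules.hom_ext (PresheafOfModules.hom_ext fun V => ModuleCat.hom_ext
    (LinearMap.ext fun y => ?_))⟩
  obtain ⟨V⟩ := V
  let T : EtOver X := V.left
  let a : T ⟶ U := V.hom
  let y' : osect N' a := y
  change oapp p a y' = oapp q a y'
  have hop : ∀ x : ↥T.obj.left.left, ∃ O : T.obj.left.left.Opens, IsAffineOpen O ∧ x ∈ O := fun x => by
    obtain ⟨O, hO, hxO, -⟩ := exists_isAffineOpen_mem_and_subset (U := (⊤ : T.obj.left.left.Opens)) (x := x) trivial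
    exact ⟨O, hO, hxO⟩
  choose O hO hxO using hop
  refine osect_ext Z a (fun x => etOpen T (O x)) (fun x => etOpenι T (O x)) (fun x => ⟨x, ⟨x, hxO x⟩, rfl⟩) fun x => ?_
  have : IsAffine (etOpen T (O x)).obj.left.left := hO x
  obtain ⟨ι, Y, g, hc, hz⟩ := h (etOpen T (O x)) (etOpenι T (O x) ≫ a) (ores N' (etOpenι T (O x)) rfl y')
  refine osect_ext Z _ Y g hc fun k => ?_
  obtain ⟨z, hz⟩ := hz k
  rw [← oapp_ores p (etOpenι T (O x)) rfl, ← oapp_ores q (etOpenι T (O x)) rfl, ← oapp_ores p (g k) rfl,
    ← oapp_ores q (g k) rfl, ← hz]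
  exact congrArg (fun ψ => oapp ψ _ z) e

/-- The section of the restricted module given by a section over the object. -/
noncomputable def overSection (M : ModEt X) (F : EtOver X) (x : sectModEt M F) : (M.over F).sections :=
  PresheafOfModules.sectionsMk (fun V => res M V.unop.hom x) fun V W f => by
    show res M f.unop.left (res M V.unop.hom x) = res M W.unop.hom x
    rw [← res_comp]
    congr 2
    exact Over.w f.unop

theorem genMap_single {M : ModEt X} {F : EtOver X} {I : Type (u + 1)} (c : I → sectModEt M F) {T : EtOver X}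
    (a : T ⟶ F) (i : I) :
    genMap ((M.over F).freeHomEquiv.symm fun j => overSection M F (c j)) a (Finsupp.single i 1) = res M a (c i) := by
  show unOver M a (oapp _ a (Finsupp.linearCombination (gam T) (obasis I a) (Finsupp.single i 1))) = _
  rw [Finsupp.linearCombination_single, one_smul]
  show ((M.over F).freeHomEquiv.symm fun j => overSection M F (c j)).val.app (op (Over.mk a))
    (Free.basis (R := OEtOn F) i (Over.mk a)) = _
  rw [Free.app_basis, Equiv.apply_symm_apply]
  rfl

theorem genMap_eq_sum {M : ModEt X} {F : EtOver X} {n : ℕ} (c : Fin n → sectModEt M F) {T : EtOver X} (a : T ⟶ F)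
    (v : ULift.{u + 1} (Fin n) →₀ gam T) :
    genMap ((M.over F).freeHomEquiv.symm fun j : ULift.{u + 1} (Fin n) => overSection M F (c j.down)) a v =
      ∑ i, v ⟨i⟩ • res M a (c i) := by
  induction v using Finsupp.induction_linear with
  | zero => simp
  | add v w hv hw =>
    rw [map_add, hv, hw, ← Finset.sum_add_distrib]
    exact Finset.sum_congr rfl fun i _ => (add_smul _ _ _).symm
  | single j r =>
    rw [← mul_one r, ← smul_eq_mul, ← Finsupp.smul_single, map_smul,
      genMap_single (fun j : ULift.{u + 1} (Fin n) => c j.down) a j]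
    refine Eq.trans ?_ (Finset.sum_eq_single j.down (fun i _ hij => ?_) fun hn => absurd (Finset.mem_univ _) hn).symm
    · show _ = (r • Finsupp.single j (1 : gam T)) j • res M a (c j.down)
      rw [Finsupp.smul_apply, Finsupp.single_eq_same, smul_eq_mul, mul_one]
    · rw [Finsupp.smul_apply, Finsupp.single_eq_of_ne (fun e => hij (congrArg ULift.down e)), smul_zero, zero_smul]

/-- The section of a module over an object given by a section on the object itself. -/
noncomputable def topSection {F : EtOver X} (N : ModEtOn F) (x : osect N (𝟙 F)) : N.sections :=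
  PresheafOfModules.sectionsMk (fun V => ores N V.unop.hom (Category.comp_id _) x) fun V W f => by
    show ores N f.unop.left (Over.w f.unop) (ores N V.unop.hom (Category.comp_id _) x) = _
    exact ores_ores N V.unop.hom _ f.unop.left _ W.unop.hom (Over.w f.unop) x

theorem oapp_injective_of_mono {U : EtOver X} {N N' : ModEtOn U} (φ : N ⟶ N') [Mono φ] {T : EtOver X} (a : T ⟶ U) :
    Function.Injective (oapp φ a) := by
  let G := SheafOfModules.forget (OEtOn U) ⋙ PresheafOfModules.evaluation (OEtOn U).obj (op (Over.mk a))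
  exact (ModuleCat.mono_iff_injective (G.map φ)).1 inferInstance

theorem oapp_freeHom {F : EtOver X} {N : ModEtOn F} {J : Type (u + 1)} (x : J → osect N (𝟙 F)) {T : EtOver X}
    (a : T ⟶ F) (j : J) :
    oapp (N.freeHomEquiv.symm fun j => topSection N (x j)) a (ocomb J a (Finsupp.single j 1)) =
      ores N a (Category.comp_id _) (x j) := by
  show oapp _ a (Finsupp.linearCombination (gam T) (obasis J a) (Finsupp.single j 1)) = _
  rw [Finsupp.linearCombination_single, one_smul]
  show (N.freeHomEquiv.symm fun j => topSection N (x j)).val.app (op (Over.mk a))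
    (Free.basis (R := OEtOn F) j (Over.mk a)) = _
  rw [Free.app_basis, Equiv.apply_symm_apply]
  rfl

variable {M : ModEt X} {F : EtOver X} (P : LocPres M F)

/-- The index type of the generators. -/
abbrev LocPres.I : Type (u + 1) := ULift.{u + 1} (Fin P.n)

/-- The index type of the relations. -/
abbrev LocPres.J : Type (u + 1) := ULift.{u + 1} (Fin P.m)

/-- The map given by the generators. -/
noncomputable def LocPres.π : ofree F P.I ⟶ M.over F :=
  (M.over F).freeHomEquiv.symm fun j => overSection M F (P.c j.down)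

/-- A relation as a combination of the basis. -/
noncomputable def LocPres.vec (j : P.J) : P.I →₀ gam F :=
  Finsupp.equivFunOnFinite.symm fun i => P.r j.down i.down

/-- The map given by the relations. -/
noncomputable def LocPres.φ : ofree F P.J ⟶ ofree F P.I :=
  (ofree F P.I).freeHomEquiv.symm fun j => topSection (ofree F P.I) (ocomb P.I (𝟙 F) (P.vec j))

theorem LocPres.π_comb {T : EtOver X} (a : T ⟶ F) (v : P.I →₀ gam T) :
    genMap P.π a v = ∑ i, v ⟨i⟩ • res M a (P.c i) := genMap_eq_sum P.c a v

theorem LocPres.φ_single {T : EtOver X} (a : T ⟶ F) (j : P.J) :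
    oapp P.φ a (ocomb P.J a (Finsupp.single j 1)) = ocomb P.I a ((P.vec j).mapRange (pb a) (map_zero _)) :=
  (oapp_freeHom (fun j => ocomb P.I (𝟙 _) (P.vec j)) a j).trans (ores_ocomb P.I a (Category.comp_id a) (P.vec j))

theorem LocPres.φ_comb {T : EtOver X} (a : T ⟶ F) (w : P.J →₀ gam T) :
    oapp P.φ a (ocomb P.J a w) =
      ocomb P.I a (Finsupp.linearCombination (gam T) (fun j => (P.vec j).mapRange (pb a) (map_zero _)) w) := by
  induction w using Finsupp.induction_linear with
  | zero => simp
  | add v w hv hw => rw [map_add, map_add, hv, hw, map_add, map_add]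
  | single j r =>
    rw [Finsupp.linearCombination_single, map_smul, ← P.φ_single, ← map_smul, ← map_smul,
      Finsupp.smul_single, smul_eq_mul, mul_one]

theorem LocPres.φ_π : P.φ ≫ P.π = 0 := by
  apply (M.over F).freeHomEquiv.injective
  refine funext fun j => Subtype.ext (funext fun V => ?_)
  rw [SheafOfModules.freeHomEquiv_comp_apply, LocPres.φ, Equiv.apply_symm_apply]
  show oapp P.π V.unop.hom (ores (ofree F P.I) V.unop.hom (Category.comp_id _) (ocomb P.I (𝟙 F) (P.vec j))) = 0
  rw [oapp_ores]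
  have e : genMap P.π (𝟙 F) (P.vec j) = 0 := by
    rw [P.π_comb]
    simp only [res_id]
    exact P.comp j.down
  have e' : oapp P.π (𝟙 F) (ocomb P.I (𝟙 F) (P.vec j)) = 0 := e
  rw [e', map_zero]

theorem LocPres.epi_π : Epi P.π := epi_of_local P.π fun T _ a y => by
  classical
  obtain ⟨ι, Y, g, hc, hy⟩ := P.gen T a y
  refine ⟨ι, Y, g, hc, fun k => ?_⟩
  obtain ⟨w, hw⟩ := Submodule.mem_span_range_iff_exists_fun _ |>.1 (hy k)
  refine ⟨ocomb P.I _ (Finsupp.equivFunOnFinite.symm fun i : P.I => w i.down), ?_⟩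
  exact (P.π_comb (g k ≫ a) _).trans hw

theorem LocPres.π_ι {T : EtOver X} (a : T ⟶ F) (x : osect (kernel P.π) a) :
    oapp P.π a (oapp (kernel.ι P.π) a x) = 0 :=
  congrArg (fun ψ : kernel P.π ⟶ M.over F => oapp ψ a x) (kernel.condition P.π)

theorem LocPres.lift_ι {T : EtOver X} (a : T ⟶ F) (z : osect (ofree F P.J) a) :
    oapp (kernel.ι P.π) a (oapp (kernel.lift P.π P.φ P.φ_π) a z) = oapp P.φ a z :=
  congrArg (fun ψ => oapp ψ a z) (kernel.lift_ι P.π P.φ P.φ_π)

theorem linearCombination_ulift {R : Type*} [CommRing R] {P : Type*} [AddCommGroup P] [Module R P] {m : ℕ}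
    (v : ULift.{u + 1} (Fin m) → P) (w : Fin m → R) :
    Finsupp.linearCombination R v (Finsupp.equivFunOnFinite.symm fun j : ULift.{u + 1} (Fin m) => w j.down) =
      ∑ j, w j • v ⟨j⟩ := by
  rw [Finsupp.linearCombination_apply, Finsupp.sum_fintype _ _ fun j => by simp]
  rw [← Equiv.sum_comp (Equiv.ulift.{u + 1, 0} (α := Fin m)).symm]
  rfl

theorem genMap_eq_zero {U : EtOver X} {I : Type (u + 1)} (π : ofree U I ⟶ M.over U) {T : EtOver X} (a : T ⟶ U)
    (v : I →₀ gam T) (h : oapp π a (ocomb I a v) = 0) : genMap π a v = 0 := by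
  show unOver M a (oapp π a (ocomb I a v)) = 0
  rw [h, map_zero]

theorem LocPres.sum_eq_zero {T : EtOver X} (a : T ⟶ F) (v : P.I →₀ gam T) (h : oapp P.π a (ocomb P.I a v) = 0) :
    ∑ i : Fin P.n, v ⟨i⟩ • res M a (P.c i) = 0 :=
  (P.π_comb a v).symm.trans (genMap_eq_zero P.π a v h)

theorem LocPres.vec_comb {T : EtOver X} (b : T ⟶ F) (w : Fin P.m → gam T) (u : P.I →₀ gam T)
    (hu : ∀ i : Fin P.n, u ⟨i⟩ = ∑ j, w j * pb b (P.r j i)) :
    Finsupp.linearCombination (gam T) (fun j : P.J => (P.vec j).mapRange (pb b) (map_zero _))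
      (Finsupp.equivFunOnFinite.symm fun j : P.J => w j.down) = u := by
  classical
  ext i
  rw [linearCombination_ulift, Finsupp.finsetSum_apply, show u i = _ from hu i.down]
  rfl

theorem LocPres.exists_lift {T V : EtOver X} (a : T ⟶ F) (g : V ⟶ T) (x : osect (kernel P.π) a)
    (v : P.I →₀ gam T) (hv : ocomb P.I a v = oapp (kernel.ι P.π) a x) (w : Fin P.m → gam V)
    (hw : ∀ i : Fin P.n, pb g (v ⟨i⟩) = ∑ j, w j * pb (g ≫ a) (P.r j i)) :
    ∃ z : osect (ofree F P.J) (g ≫ a),
      oapp (kernel.lift P.π P.φ P.φ_π) (g ≫ a) z = ores (kernel P.π) g rfl x := by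
  let z := ocomb P.J (g ≫ a) (Finsupp.equivFunOnFinite.symm fun j : P.J => w j.down)
  have e₁ : oapp (kernel.ι P.π) (g ≫ a) (ores (kernel P.π) g rfl x) =
      ocomb P.I (g ≫ a) (v.mapRange (pb g) (map_zero _)) := by
    rw [oapp_ores, ← hv, ores_ocomb]
  have e₂ : oapp (kernel.ι P.π) (g ≫ a) (oapp (kernel.lift P.π P.φ P.φ_π) (g ≫ a) z) =
      ocomb P.I (g ≫ a) (v.mapRange (pb g) (map_zero _)) := by
    rw [P.lift_ι, P.φ_comb, P.vec_comb (g ≫ a) w (v.mapRange (pb g) (map_zero _)) fun i => ?_]
    rw [Finsupp.mapRange_apply]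
    exact hw i
  exact ⟨z, oapp_injective_of_mono (kernel.ι P.π) (g ≫ a) (e₂.trans e₁.symm)⟩

set_option maxHeartbeats 4000000 in
theorem LocPres.epi_lift : Epi (kernel.lift P.π P.φ P.φ_π) := epi_of_local _ fun T _ a x => by
  classical
  obtain ⟨v, hv⟩ := ocomb_surjective P.I a (oapp (kernel.ι P.π) a x)
  have h1 : oapp P.π a (ocomb P.I a v) = 0 := (congrArg (oapp P.π a) hv).trans (P.π_ι a x)
  have h0 := P.sum_eq_zero a v h1
  obtain ⟨ι, Y, g, hc, hy⟩ := P.rel T a (fun i => v ⟨i⟩) h0
  refine ⟨ι, Y, g, hc, fun k => ?_⟩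
  obtain ⟨w, hw⟩ := Submodule.mem_span_range_iff_exists_fun _ |>.1 (hy k)
  have hw' : ∀ i : Fin P.n, pb (g k) (v ⟨i⟩) = ∑ j, w j * pb (g k ≫ a) (P.r j i) := fun i => by
    have := congrFun hw i
    rw [Finset.sum_apply] at this
    exact this.symm
  exact P.exists_lift a (g k) x v hv w hw'

theorem LocPres.rel_epi :
    Epi ((kernel P.π).freeHomEquiv.symm ((kernel P.π).freeHomEquiv (kernel.lift P.π P.φ P.φ_π))) := by
  rw [Equiv.symm_apply_apply]
  exact P.epi_lift

/-- A local presentation by sections gives a finite presentation of the restricted module. -/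
theorem LocPres.exists_presentation {M : ModEt X} {F : EtOver X} (P : LocPres M F) :
    ∃ Q : (M.over F).Presentation, Q.IsFinite :=
  ⟨{ generators := ⟨P.I, fun j => overSection M F (P.c j.down), P.epi_π⟩
     relations := ⟨P.J, (kernel P.π).freeHomEquiv (kernel.lift P.π P.φ P.φ_π), P.rel_epi⟩ },
    { isFiniteType_generators := ⟨inferInstanceAs (Finite P.I)⟩
      isFiniteType_relations := ⟨inferInstanceAs (Finite P.J)⟩ }⟩

/-- Modules with local presentations by sections on a covering of every Noetherian affine object are of finite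
presentation. -/
theorem isFinitePresentation_of_locPres (hX : IsLocNoethSp X) (M : ModEt X)
    (h : ∀ E : EtOver X, IsNoeth E → ∀ x : ↥E.obj.left.left,
      ∃ (F : EtOver X) (g : F ⟶ E), Nonempty (LocPres M F) ∧ x ∈ Set.range g.hom.left.left) :
    M.IsFinitePresentation := by
  choose Q hQ using fun i : {F : EtOver X // Nonempty (LocPres M F)} => i.2.some.exists_presentation
  let q := SheafOfModules.QuasicoherentData.mk (M := M) {F : EtOver X // Nonempty (LocPres M F)}
    (fun i => i.1) (coversTop_of_noeth hX _ h) Q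
  have hq : q.IsFinitePresentation := { isFinite_presentation := hQ }
  exact { exists_quasicoherentData := ⟨q, hq⟩ }

end Groth.Agent.EtCoh7
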