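import Groth.Agent.EtQCoh5.PushQcqs
import Groth.Agent.EtQCoh5.Converse
import Groth.Agent.EtQCoh5.FinLocFree
import Groth.Agent.EtQCoh.PushAss
import Groth.Agent.EtCoh7.Cart
import Mathlib.AlgebraicGeometry.Morphisms.Finite
import Mathlib.RingTheory.TensorProduct.Finite

/-!
# Direct images of coherent modules along finite morphisms of algebraic spaces
-/

set_option backward.isDefEq.respectTransparency false
set_option backward.isDefEq.respectTransparency.types false
set_option linter.style.haveILetI false
set_option maxHeartbeats 800000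

universe u

open CategoryTheory CategoryTheory.Limits AlgebraicGeometry Opposite AlgSp TensorProduct

namespace Groth.Agent.EtCoh7

open Groth.Agent.AlgSpQ4.MV Groth.Agent.AlgSpDec Groth.Agent.EtQCoh

variable {S : Scheme.{u}} {X Y : Sp S} {f : X ⟶ Y} (hf : Representable f)

/-- Direct images along affine morphisms are cartesian. -/
theorem cartAt_push (haff : IsAffineMor f) (M : ModEt X) [M.IsQuasicoherent] (E : EtOver Y)
    [IsAffine E.obj.left.left] : CartAt ((pushModEt hf).obj M) E := fun T hT g => by
  have := hT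
  have hA := isAffine_bc hf haff E
  exact EtQCoh5.cartMap_pushModEt hf g M (ι := PUnit.{u + 1}) (κ := PUnit.{u + 1}) (fun _ => ⊤) (fun _ => ⊤) id id
    (fun _ => @isAffineOpen_top _ hA) (fun _ => @isAffineOpen_top _ hA) (fun _ => le_rfl) (fun _ => le_rfl)
    (fun _ => ⟨PUnit.unit, trivial⟩) fun _ _ _ _ _ => ⟨PUnit.unit, rfl, rfl, trivial⟩

theorem smul_pushModEt (M : ModEt X) (E : EtOver Y) (a : gam E) (x : sectModEt ((pushModEt hf).obj M) E) :
    a • x = EtQCoh5.piF hf E a • (show sectModEt M (EtQCoh5.bb hf E) from x) := rfl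

/-- Direct images along finite morphisms preserve finiteness of sections. -/
theorem finite_sect_push' (hfin : IsFiniteMor f) (M : ModEt X) [M.IsQuasicoherent] [M.IsFiniteType] (E : EtOver Y)
    [IsAffine E.obj.left.left] : Module.Finite (gam E) (sectModEt ((pushModEt hf).obj M) E) := by
  have hA : IsAffine (EtQCoh5.bb hf E).obj.left.left := isAffine_bc hf (isAffineMor_of_finite hfin) E
  have hπ : IsFinite (EtOver.bcπ hf E).left := isFinite_bcπ hf hfin E
  have hr : (EtQCoh5.piF hf E).Finite := IsFinite.finite_app _ ⊤ (isAffineOpen_top _)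
  letI : Algebra (gam E) (gam (EtQCoh5.bb hf E)) := (EtQCoh5.piF hf E).toAlgebra
  letI : Module (gam E) (sectModEt M (EtQCoh5.bb hf E)) := Module.compHom _ (EtQCoh5.piF hf E)
  haveI : IsScalarTower (gam E) (gam (EtQCoh5.bb hf E)) (sectModEt M (EtQCoh5.bb hf E)) := ⟨fun a b x => by
    show (EtQCoh5.piF hf E a * b) • x = EtQCoh5.piF hf E a • b • x
    rw [mul_smul]⟩
  haveI : Module.Finite (gam E) (gam (EtQCoh5.bb hf E)) := hr
  haveI := EtCoh7.finite_sect M (EtQCoh5.bb hf E)
  haveI := Module.Finite.trans (R := gam E) (gam (EtQCoh5.bb hf E)) (sectModEt M (EtQCoh5.bb hf E))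
  let e : sectModEt ((pushModEt hf).obj M) E ≃ₗ[gam E] sectModEt M (EtQCoh5.bb hf E) :=
    { toFun := fun x => x
      invFun := fun x => x
      map_add' := fun _ _ => rfl
      map_smul' := fun a x => smul_pushModEt hf M E a x
      left_inv := fun _ => rfl
      right_inv := fun _ => rfl }
  exact Module.Finite.equiv e.symm

theorem isFinitePresentation_pushModEt (hfin : IsFiniteMor f) (hY : IsLocNoethSp Y) (M : ModEt X)
    [M.IsFinitePresentation] : ((pushModEt hf).obj M).IsFinitePresentation :=
  isFinitePresentation_of_cartAt hY _ fun E hE => by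
    have := hE.1
    exact ⟨cartAt_push hf (isAffineMor_of_finite hfin) M E, finite_sect_push' hf hfin M E⟩

end Groth.Agent.EtCoh7
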