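import Groth.Agent.EtQCoh.Main
import Mathlib.RingTheory.Finiteness.Basic

/-!
# Sections of cartesian modules on affine objects: spans and finiteness
-/

set_option backward.isDefEq.respectTransparency false
set_option backward.isDefEq.respectTransparency.types false
set_option linter.style.haveILetI false
set_option maxHeartbeats 800000

universe u

open CategoryTheory CategoryTheory.Limits AlgebraicGeometry Opposite AlgSp TensorProduct

namespace Groth.Agent.EtCoh7

open Groth.Agent.AlgSpQ4.MV Groth.Agent.AlgSpDec Groth.Agent.EtQCoh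

variable {S : Scheme.{u}} {X : Sp S}

theorem res_mem_span {M : ModEt X} {E T : EtOver X} (g : T ⟶ E) {s : Set (sectModEt M E)} {y : sectModEt M E}
    (hy : y ∈ Submodule.span (gam E) s) : res M g y ∈ Submodule.span (gam T) (res M g '' s) := by
  induction hy using Submodule.span_induction with
  | mem z hz => exact Submodule.subset_span ⟨z, hz, rfl⟩
  | zero => simp
  | add a b _ _ ha hb => rw [map_add]; exact Submodule.add_mem _ ha hb
  | smul r a _ ha => rw [res_smul]; exact Submodule.smul_mem _ _ ha

theorem app_mem_span {M N : ModEt X} (φ : M ⟶ N) {E : EtOver X} {s : Set (sectModEt M E)} {y : sectModEt M E}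
    (hy : y ∈ Submodule.span (gam E) s) :
    φ.val.app (op E) y ∈ Submodule.span (gam E) ((φ.val.app (op E)).hom '' s) := by
  induction hy using Submodule.span_induction with
  | mem z hz => exact Submodule.subset_span ⟨z, hz, rfl⟩
  | zero => simp
  | add a b _ _ ha hb => rw [map_add]; exact Submodule.add_mem _ ha hb
  | smul r a _ ha => rw [app_smul]; exact Submodule.smul_mem _ _ ha

/-- Sections over `T` are spanned by restrictions. -/
theorem span_res_eq_top {M : ModEt X} {E T : EtOver X} [IsAffine T.obj.left.left] (hM : CartAt M E) (g : T ⟶ E)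
    {s : Set (sectModEt M E)} (hs : Submodule.span (gam E) s = ⊤) :
    Submodule.span (gam T) (res M g '' s) = ⊤ := by
  refine eq_top_iff.2 fun y _ => ?_
  letI := (pb g).toAlgebra
  obtain ⟨t, rfl⟩ := (hM T inferInstance g).2 y
  induction t with
  | zero => simp
  | add a b ha hb => rw [map_add]; exact Submodule.add_mem _ (ha trivial) (hb trivial)
  | tmul r x =>
    rw [θ_tmul]
    exact Submodule.smul_mem _ _ (res_mem_span g (hs ▸ trivial))

/-- Membership in a span of sections is local. -/
theorem mem_span_of_cover {M : ModEt X} {E : EtOver X} [IsAffine E.obj.left.left] (hM : CartAt M E)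
    {ι : Type u} (Y : ι → EtOver X) [∀ i, IsAffine (Y i).obj.left.left] (g : ∀ i, Y i ⟶ E)
    (hc : ∀ x : ↥E.obj.left.left, ∃ i, x ∈ Set.range (g i).hom.left.left)
    (s : Set (sectModEt M E)) {y : sectModEt M E}
    (h : ∀ i, res M (g i) y ∈ Submodule.span (gam (Y i)) (res M (g i) '' s)) : y ∈ Submodule.span (gam E) s := by
  let K := Submodule.span (gam E) s
  have key : y ∈ LinearMap.range K.subtype := by
    letI := fun i => (pb (g i)).toAlgebra
    refine mem_range_of_cover (isCoverAlg_of_cover Y g hc) K.subtype fun i => ?_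
    have hθ := hM (Y i) inferInstance (g i)
    let F := (θLin M (g i)).comp (K.subtype.baseChange (gam (Y i)))
    have hle : Submodule.span (gam (Y i)) (res M (g i) '' s) ≤ LinearMap.range F := by
      rw [Submodule.span_le]
      rintro _ ⟨w, hw, rfl⟩
      refine ⟨1 ⊗ₜ ⟨w, Submodule.subset_span hw⟩, ?_⟩
      show θ M (g i) ((1 : gam (Y i)) ⊗ₜ[gam E] w) = _
      rw [θ_tmul, one_smul]
    obtain ⟨t, ht⟩ := hle (h i)
    exact ⟨t, hθ.1 (ht.trans (by rw [θ_tmul, one_smul]))⟩
  obtain ⟨k, hk⟩ := key
  rw [← hk]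
  exact k.2

/-- Finiteness of sections is local. -/
theorem finite_of_cover {M : ModEt X} {E : EtOver X} [IsAffine E.obj.left.left] (hM : CartAt M E)
    {ι : Type u} [Finite ι] (Y : ι → EtOver X) [∀ i, IsAffine (Y i).obj.left.left] (g : ∀ i, Y i ⟶ E)
    (hc : ∀ x : ↥E.obj.left.left, ∃ i, x ∈ Set.range (g i).hom.left.left)
    (h : ∀ i, Module.Finite (gam (Y i)) (sectModEt M (Y i))) : Module.Finite (gam E) (sectModEt M E) := by
  classical
  have key : ∀ i, ∃ s : Finset (sectModEt M E), Submodule.span (gam (Y i)) (res M (g i) '' ↑s) = ⊤ := fun i => by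
    letI := (pb (g i)).toAlgebra
    obtain ⟨gens, hgens⟩ := (h i).fg_top
    have : ∀ y : sectModEt M (Y i), ∃ s : Finset (sectModEt M E),
        y ∈ Submodule.span (gam (Y i)) (res M (g i) '' ↑s) := fun y => by
      obtain ⟨t, rfl⟩ := (hM (Y i) inferInstance (g i)).2 y
      induction t with
      | zero => exact ⟨∅, by simp⟩
      | add a b ha hb =>
        obtain ⟨s, hs⟩ := ha; obtain ⟨s', hs'⟩ := hb
        refine ⟨s ∪ s', ?_⟩
        rw [map_add, Finset.coe_union, Set.image_union]
        exact Submodule.add_mem _ (Submodule.span_mono Set.subset_union_left hs)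
          (Submodule.span_mono Set.subset_union_right hs')
      | tmul r x =>
        refine ⟨{x}, ?_⟩
        rw [θ_tmul]
        exact Submodule.smul_mem _ _ (Submodule.subset_span ⟨x, by simp, rfl⟩)
    choose f hf using this
    refine ⟨gens.biUnion f, eq_top_iff.2 (hgens ▸ Submodule.span_le.2 fun y hy => ?_)⟩
    exact Submodule.span_mono (Set.image_mono (Finset.coe_subset.2 (Finset.subset_biUnion_of_mem f hy))) (hf y)
  choose s hs using key
  have := Fintype.ofFinite ι
  refine ⟨⟨Finset.univ.biUnion s, eq_top_iff.2 fun y _ => mem_span_of_cover hM Y g hc _ fun i => ?_⟩⟩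
  exact Submodule.span_mono (Set.image_mono (Finset.coe_subset.2 (Finset.subset_biUnion_of_mem s (Finset.mem_univ i))))
    (hs i ▸ trivial)

/-- Epimorphisms are locally surjective on sections. -/
theorem exists_cover_of_epi {M N : ModEt X} (φ : M ⟶ N) [Epi φ] {T : EtOver X} [IsAffine T.obj.left.left]
    (y : sectModEt N T) :
    ∃ (ι : Type u) (_ : Finite ι) (Y : ι → EtOver X) (_ : ∀ i, IsAffine (Y i).obj.left.left) (g : ∀ i, Y i ⟶ T),
      (∀ i, ∃ z : sectModEt M (Y i), φ.val.app (op (Y i)) z = res N (g i) y) ∧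
        ∀ x : ↥T.obj.left.left, ∃ i, x ∈ Set.range (g i).hom.left.left := by
  obtain ⟨R, hR, h⟩ := Free.locally_mem_range_of_epi φ y
  obtain ⟨ι, hι, Y, hY, g, hm, hc⟩ := exists_finite_affine_cover R hR
  exact ⟨ι, hι, Y, hY, g, fun i => h (g i) (hm i), hc⟩

/-- An epimorphism to a cartesian module takes spanning sets to spanning sets. -/
theorem span_image_eq_top_of_epi {M N : ModEt X} (φ : M ⟶ N) [Epi φ] {E : EtOver X} [IsAffine E.obj.left.left]
    (hM : CartAt M E) (hN : CartAt N E) {s : Set (sectModEt M E)} (hs : Submodule.span (gam E) s = ⊤) :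
    Submodule.span (gam E) ((φ.val.app (op E)).hom '' s) = ⊤ := by
  refine eq_top_iff.2 fun y _ => ?_
  obtain ⟨ι, hι, Y, hY, g, hz, hc⟩ := exists_cover_of_epi φ y
  refine mem_span_of_cover hN Y g hc _ fun i => ?_
  obtain ⟨z, hz⟩ := hz i
  rw [← hz, Set.image_image]
  have h₁ : z ∈ Submodule.span (gam (Y i)) (res M (g i) '' s) := span_res_eq_top hM (g i) hs ▸ trivial
  have h₂ := app_mem_span φ h₁
  rw [Set.image_image] at h₂
  have e : (fun x => (φ.val.app (op (Y i))).hom (res M (g i) x)) =
      fun x => res N (g i) ((φ.val.app (op E)).hom x) := funext fun x => app_res φ (g i) x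
  rw [e] at h₂
  exact h₂

theorem exact_of_kernel {M N : ModEt X} (φ : M ⟶ N) (E : EtOver X) (x : sectModEt M E)
    (hx : φ.val.app (op E) x = 0) : ∃ k : sectModEt (kernel φ) E, (kernel.ι φ).val.app (op E) k = x := by
  let G := SheafOfModules.forget (OEtRing X) ⋙ PresheafOfModules.evaluation (OEtRing X).obj (op E)
  have hS : ((ShortComplex.mk _ _ (kernel.condition φ)).map G).Exact :=
    (ShortComplex.exact_of_f_is_kernel _ (kernelIsKernel φ)).map_of_mono_of_preservesKernel G
      (inferInstanceAs (Mono (kernel.ι φ))) inferInstance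
  exact (ShortComplex.moduleCat_exact_iff _).1 hS x hx

theorem app_injective_of_mono {M N : ModEt X} (φ : M ⟶ N) [Mono φ] (E : EtOver X) :
    Function.Injective (φ.val.app (op E)) := by
  let G := SheafOfModules.forget (OEtRing X) ⋙ PresheafOfModules.evaluation (OEtRing X).obj (op E)
  exact (ModuleCat.mono_iff_injective (G.map φ)).1 inferInstance

/-- Sections of a submodule of a module with finite sections over a Noetherian ring are finite. -/
theorem finite_of_mono {M N : ModEt X} (ι : N ⟶ M) [Mono ι] (E : EtOver X) [IsNoetherianRing (gam E)]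
    [Module.Finite (gam E) (sectModEt M E)] : Module.Finite (gam E) (sectModEt N E) := by
  let f : sectModEt N E →ₗ[gam E] sectModEt M E :=
    { toFun := ι.val.app (op E), map_add' := map_add _, map_smul' := fun a x => app_smul ι a x }
  exact Module.Finite.of_injective f (app_injective_of_mono ι E)

theorem apply_mem_span_single {R : Type*} [CommRing R] {I : Type*} {P : Type*} [AddCommGroup P] [Module R P]
    (L : (I →₀ R) →ₗ[R] P) (c : I →₀ R) :
    L c ∈ Submodule.span R (Set.range fun j : I => L (Finsupp.single j 1)) := by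
  induction c using Finsupp.induction_linear with
  | zero => simp
  | add a b ha hb => rw [map_add]; exact Submodule.add_mem _ ha hb
  | single j r =>
    rw [← mul_one r, ← smul_eq_mul, ← Finsupp.smul_single, map_smul]
    exact Submodule.smul_mem _ _ (Submodule.subset_span ⟨j, rfl⟩)

/-- Sections of a restricted module as sections of the module. -/
noncomputable def unOver (M : ModEt X) {U T : EtOver X} (a : T ⟶ U) :
    osect (M.over U) a →ₗ[gam T] sectModEt M T where
  toFun x := x
  map_add' _ _ := rfl
  map_smul' _ _ := rfl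

/-- The combinations of generators over an object, as sections of the module. -/
noncomputable def genMap {M : ModEt X} {U : EtOver X} {I : Type (u + 1)} (π : ofree U I ⟶ M.over U) {T : EtOver X}
    (a : T ⟶ U) : (I →₀ gam T) →ₗ[gam T] sectModEt M T :=
  (unOver M a).comp ((oapp π a).comp (ocomb I a))

theorem res_genMap {M : ModEt X} {U : EtOver X} {I : Type (u + 1)} (π : ofree U I ⟶ M.over U) {T V : EtOver X}
    (a : T ⟶ U) (h : V ⟶ T) (c : I →₀ gam T) :
    res M h (genMap π a c) = genMap π (h ≫ a) (c.mapRange (pb h) (map_zero _)) := by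
  show _ = unOver M (h ≫ a) (oapp π (h ≫ a) (ocomb I (h ≫ a) (c.mapRange (pb h) (map_zero _))))
  rw [← ores_ocomb I h rfl, oapp_ores]
  rfl

theorem finite_sect_of_gens (M : ModEt X) {U : EtOver X} {I : Type (u + 1)} [Finite I] (π : ofree U I ⟶ M.over U)
    [Epi π] {F : EtOver X} [IsAffine F.obj.left.left] (hM : CartAt M F) (f : F ⟶ U) :
    Module.Finite (gam F) (sectModEt M F) := by
  have hfin : (Set.range fun j : I => genMap π f (Finsupp.single j 1)).Finite := Set.finite_range _
  refine ⟨⟨hfin.toFinset, ?_⟩⟩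
  rw [Set.Finite.coe_toFinset]
  refine eq_top_iff.2 fun y _ => ?_
  obtain ⟨R, hR, hy⟩ := Free.locally_mem_range_of_epi π (T := Over.mk f) y
  obtain ⟨κ, hκ, V, hV, h, hh, hcov⟩ := exists_cover_over f R hR
  refine mem_span_of_cover hM V h hcov _ fun l => ?_
  obtain ⟨z, hz⟩ := hy _ (hh l)
  obtain ⟨c, rfl⟩ := ocomb_surjective I (h l ≫ f) z
  have e : res M (h l) y = genMap π (h l ≫ f) c := hz.symm
  rw [e]
  refine Submodule.span_mono ?_ (apply_mem_span_single _ c)
  rintro _ ⟨j, rfl⟩
  exact ⟨_, ⟨j, rfl⟩, by rw [res_genMap, Finsupp.mapRange_single, map_one]⟩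

/-- Quasi-coherent modules of finite type have finite sections on affine objects. -/
theorem finite_sect (M : ModEt X) [M.IsQuasicoherent] [M.IsFiniteType] (E : EtOver X) [IsAffine E.obj.left.left] :
    Module.Finite (gam E) (sectModEt M E) := by
  obtain ⟨σ, hσ⟩ := SheafOfModules.IsFiniteType.exists_localGeneratorsData M
  obtain ⟨ι, hι, Y, hY, g, hm, hc⟩ := exists_finite_affine_cover (T := E) (Sieve.ofObjects σ.X E) (σ.coversTop E)
  refine finite_of_cover (cartAt M E) Y g hc fun i => ?_
  obtain ⟨k, ⟨f⟩⟩ := (Sieve.mem_ofObjects_iff ..).1 (hm i)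
  have := (hσ.isFiniteType k).finite
  exact finite_sect_of_gens M (σ.generators k).π (cartAt M (Y i)) f

end Groth.Agent.EtCoh7
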