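import Groth.Agent.EtCoh7.Chain
import Groth.Agent.AlgSpDec.ArtinAffine
import Mathlib.Algebra.Category.ModuleCat.Presheaf.Submodule
import Mathlib.LinearAlgebra.TensorProduct.Pi

/-!
# The submodules bounded on finitely many charts

For charts `E i`, finite sets of sections `G i` of a module over them and an object `T`, the sections over `T` all
of whose restrictions to affine objects over `T` and over some `E i` are combinations of restrictions of `G i`
form a submodule; it is coherent if the module is quasi-coherent, the space is Noetherian and the charts cover it.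
-/

set_option backward.isDefEq.respectTransparency false
set_option backward.isDefEq.respectTransparency.types false
set_option linter.style.haveILetI false
set_option maxHeartbeats 1000000

universe u

open CategoryTheory CategoryTheory.Limits AlgebraicGeometry Opposite AlgSp TensorProduct

namespace Groth.Agent.EtCoh7

open Groth.Agent.AlgSpQ4.MV Groth.Agent.AlgSpDec Groth.Agent.EtQCoh

variable {S : Scheme.{u}} {X : Sp S} (M : ModEt X) {ι : Type u} (E : ι → EtOver X)

/-- The bound of sections over an object mapping to the `i`-th chart. -/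
noncomputable def bnd (G : ∀ i, Finset (sectModEt M (E i))) {i : ι} {V : EtOver X} (b : V ⟶ E i) :
    Submodule (gam V) (sectModEt M V) :=
  Submodule.span (gam V) (res M b '' (↑(G i) : Set (sectModEt M (E i))))

variable {M E} {G : ∀ i, Finset (sectModEt M (E i))}

theorem bnd_mono {G' : ∀ i, Finset (sectModEt M (E i))} (h : ∀ i, G i ⊆ G' i) {i : ι} {V : EtOver X} (b : V ⟶ E i) :
    bnd M E G b ≤ bnd M E G' b :=
  Submodule.span_mono (Set.image_mono (Finset.coe_subset.2 (h i)))

theorem res_mem_bnd {i : ι} {V W : EtOver X} (b : V ⟶ E i) (q : W ⟶ V) {x : sectModEt M V} (hx : x ∈ bnd M E G b) :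
    res M q x ∈ bnd M E G (q ≫ b) := by
  have h := res_mem_span q hx
  rw [Set.image_image] at h
  refine Submodule.span_mono ?_ h
  rintro _ ⟨y, hy, rfl⟩
  exact ⟨y, hy, res_comp M q b y⟩

theorem mem_bnd_of_cover [M.IsQuasicoherent] {i : ι} {V : EtOver X} [IsAffine V.obj.left.left] (b : V ⟶ E i)
    {κ : Type u} (Y : κ → EtOver X) [∀ k, IsAffine (Y k).obj.left.left] (g : ∀ k, Y k ⟶ V)
    (hc : ∀ x : ↥V.obj.left.left, ∃ k, x ∈ Set.range (g k).hom.left.left) {x : sectModEt M V}
    (h : ∀ k, res M (g k) x ∈ bnd M E G (g k ≫ b)) : x ∈ bnd M E G b := by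
  refine mem_span_of_cover (cartAt M V) Y g hc _ fun k => ?_
  rw [Set.image_image]
  refine Submodule.span_mono ?_ (h k)
  rintro _ ⟨y, hy, rfl⟩
  exact ⟨y, hy, (res_comp M (g k) b y).symm⟩

variable (M E G) in
/-- The sections bounded by `G` on every common refinement with a chart. -/
noncomputable def bSub (T : EtOver X) : Submodule (gam T) (sectModEt M T) where
  carrier := {m | ∀ (i : ι) (V : EtOver X), IsAffine V.obj.left.left → ∀ (a : V ⟶ T) (b : V ⟶ E i),
    res M a m ∈ bnd M E G b}
  add_mem' hm hn i V hV a b := by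
    rw [map_add]
    exact Submodule.add_mem _ (hm i V hV a b) (hn i V hV a b)
  zero_mem' i V hV a b := by
    rw [map_zero]
    exact Submodule.zero_mem _
  smul_mem' r m hm i V hV a b := by
    rw [res_smul]
    exact Submodule.smul_mem _ _ (hm i V hV a b)

theorem res_mem_bSub {T T' : EtOver X} (h : T' ⟶ T) {m : sectModEt M T} (hm : m ∈ bSub M E G T) :
    res M h m ∈ bSub M E G T' := fun i V hV a b => by
  rw [← res_comp]
  exact hm i V hV (a ≫ h) b

theorem bSub_mono {G' : ∀ i, Finset (sectModEt M (E i))} (h : ∀ i, G i ⊆ G' i) (T : EtOver X) :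
    bSub M E G T ≤ bSub M E G' T := fun _ hm i V hV a b => bnd_mono h b (hm i V hV a b)

theorem mem_bSub_of_sieve [M.IsQuasicoherent] {T : EtOver X} (R : Sieve T) (hR : R ∈ etTop X T) {m : sectModEt M T}
    (h : ∀ ⦃T' : EtOver X⦄ (f : T' ⟶ T), R f → res M f m ∈ bSub M E G T') : m ∈ bSub M E G T := by
  intro i V hV a b
  obtain ⟨κ, -, Y, hY, g, hm, hc⟩ := exists_finite_affine_cover (R.pullback a) ((etTop X).pullback_stable a hR)
  refine mem_bnd_of_cover b Y g hc fun k => ?_
  have := h (g k ≫ a) (hm k) i (Y k) (hY k) (𝟙 _) (g k ≫ b)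
  rw [res_id, res_comp] at this
  exact this

theorem bSub_self_le (i : ι) [IsAffine (E i).obj.left.left] :
    bSub M E G (E i) ≤ Submodule.span (gam (E i)) ↑(G i) := fun m hm => by
  have := hm i (E i) inferInstance (𝟙 _) (𝟙 _)
  rw [res_id] at this
  refine Submodule.span_le.2 ?_ this
  rintro _ ⟨y, hy, rfl⟩
  rw [res_id]
  exact Submodule.subset_span hy

variable (M E G) in
/-- The family of bounded sections as a submodule of the presheaf of modules. -/
noncomputable def bPre : M.val.Submodule where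
  obj T :=
    { carrier := (bSub M E G T.unop : Set (sectModEt M T.unop))
      add_mem' := (bSub M E G T.unop).add_mem
      zero_mem' := (bSub M E G T.unop).zero_mem
      smul_mem' := fun r m hm => (bSub M E G T.unop).smul_mem r.down hm }
  map f := fun _ hm => res_mem_bSub f.unop hm

theorem bPre_isSheaf [M.IsQuasicoherent] :
    Presheaf.IsSheaf (etTop X) (bPre M E G).toPresheafOfModules.presheaf := by
  rw [Presheaf.isSheaf_iff_isSheaf_forget _ _ (CategoryTheory.forget AddCommGrpCat), isSheaf_iff_isSheaf_of_type]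
  have hM : Presieve.IsSheaf (etTop X) (M.val.presheaf ⋙ CategoryTheory.forget AddCommGrpCat) :=
    (isSheaf_iff_isSheaf_of_type _ _).1
      ((Presheaf.isSheaf_iff_isSheaf_forget _ _ (CategoryTheory.forget AddCommGrpCat)).1 M.isSheaf)
  intro T R hR x hx
  have hx' : Presieve.FamilyOfElements.Compatible
      (P := M.val.presheaf ⋙ CategoryTheory.forget AddCommGrpCat) (fun V f hf => (x f hf).1) :=
    fun Y₁ Y₂ Z g₁ g₂ f₁ f₂ h₁ h₂ e => congrArg Subtype.val (hx g₁ g₂ h₁ h₂ e)
  obtain ⟨z, hz, huniq⟩ := hM R hR _ hx'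
  have hmem : z ∈ bSub M E G T := mem_bSub_of_sieve R hR fun T' f hf => by
    have e := hz f hf
    exact e ▸ (x f hf).2
  exact ⟨⟨z, hmem⟩, fun V f hf => Subtype.ext (hz f hf),
    fun t ht => Subtype.ext (huniq t.1 fun V f hf => congrArg Subtype.val (ht f hf))⟩

variable (M E G) in
/-- The sheaf of bounded sections. -/
noncomputable def bMod [M.IsQuasicoherent] : ModEt X := ⟨(bPre M E G).toPresheafOfModules, bPre_isSheaf⟩

variable (M E G) in
/-- The inclusion of the bounded sections. -/
noncomputable def bι [M.IsQuasicoherent] : bMod M E G ⟶ M := ⟨(bPre M E G).ι⟩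

theorem bι_injective [M.IsQuasicoherent] (T : EtOver X) : Function.Injective (appLin (bι M E G) T) :=
  fun _ _ h => Subtype.ext h

instance mono_bι [M.IsQuasicoherent] : Mono (bι M E G) :=
  ⟨fun f g e => SheafOfModules.hom_ext (PresheafOfModules.hom_ext fun T => ModuleCat.hom_ext (LinearMap.ext fun x =>
    bι_injective T.unop (congrArg (fun k => k.val.app T x) e)))⟩

theorem range_bι [M.IsQuasicoherent] (T : EtOver X) :
    LinearMap.range (appLin (bι M E G) T) = bSub M E G T := by
  refine le_antisymm ?_ fun m hm => ⟨⟨m, hm⟩, rfl⟩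
  rintro _ ⟨x, rfl⟩
  exact x.2

/-- Morphisms with range in an open factor through it. -/
theorem exists_etOpen_lift (E : EtOver X) (W : E.obj.left.left.Opens) {T : EtOver X} (f : T ⟶ E)
    (h : ∀ t, f.hom.left.left t ∈ W) : ∃ l : T ⟶ etOpen E W, l ≫ etOpenι E W = f := by
  have hr : Set.range f.hom.left.left ⊆ Set.range W.ι := by
    rintro _ ⟨t, rfl⟩
    rw [W.range_ι]
    exact h t
  let l₀ : T.obj.left ⟶ (etOpen E W).obj.left := Over.homMk (IsOpenImmersion.lift W.ι f.hom.left.left hr) (by
    show IsOpenImmersion.lift W.ι f.hom.left.left hr ≫ W.ι ≫ E.obj.left.hom = T.obj.left.hom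
    rw [IsOpenImmersion.lift_fac_assoc]
    exact Over.w f.hom.left)
  have hl : l₀ ≫ (Over.homMk W.ι rfl : (etOpen E W).obj.left ⟶ E.obj.left) = f.hom.left :=
    Over.OverMorphism.ext (IsOpenImmersion.lift_fac _ _ _)
  refine ⟨EtOver.homMk l₀ ?_, EtOver.hom_ext _ _ hl⟩
  show (yon S).map l₀ ≫ (yon S).map (Over.homMk W.ι rfl : (etOpen E W).obj.left ⟶ E.obj.left) ≫ E.obj.hom = T.obj.hom
  rw [← Category.assoc, ← Functor.map_comp, hl, EtOver.w f]

/-- Compact common refinements of affine objects. -/
theorem exists_finite_refinement [QuasiSeparatedSpace ↥S] (hqs : IsQuasiSeparatedSp X) (A B : EtOver X)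
    [IsAffine A.obj.left.left] [IsAffine B.obj.left.left] :
    ∃ (κ : Type u) (_ : Finite κ) (V : κ → EtOver X) (_ : ∀ k, IsAffine (V k).obj.left.left)
      (a : ∀ k, V k ⟶ A) (b : ∀ k, V k ⟶ B),
      ∀ (W : EtOver X) (a' : W ⟶ A) (b' : W ⟶ B) (w : ↥W.obj.left.left),
        ∃ (W' : EtOver X) (h : W' ⟶ W) (k : κ) (l : W' ⟶ V k), IsAffine W'.obj.left.left ∧
          w ∈ Set.range h.hom.left.left ∧ l ≫ a k = h ≫ a' ∧ l ≫ b k = h ≫ b' := by
  have hP : CompactSpace ↥(EtOver.prodObj A B).obj.left.left := by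
    have : CompactSpace ↥A.obj.left.left := inferInstance
    have : CompactSpace ↥B.obj.left.left := inferInstance
    have h : QuasiCompact (EtOver.prodFst A B).hom.left.left :=
      quasiCompact_fibreProd hqs (B.property.rep.isPullback' A.obj.hom)
    exact QuasiCompact.compactSpace_of_compactSpace (EtOver.prodFst A B).hom.left.left
  let P := EtOver.prodObj A B
  have hop : ∀ x : ↥P.obj.left.left, ∃ O : P.obj.left.left.Opens, IsAffineOpen O ∧ x ∈ O := fun x => by
    obtain ⟨O, hO, hxO, -⟩ := exists_isAffineOpen_mem_and_subset (U := (⊤ : P.obj.left.left.Opens)) (x := x) trivial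
    exact ⟨O, hO, hxO⟩
  choose O hO hxO using hop
  obtain ⟨s, hs⟩ := (isCompact_univ (X := ↥P.obj.left.left)).elim_finite_subcover (fun x => (O x : Set ↥P.obj.left.left))
    (fun x => (O x).isOpen) fun x _ => Set.mem_iUnion.2 ⟨x, hxO x⟩
  refine ⟨↥s, Finite.of_fintype _, fun x => etOpen P (O x.1), fun x => hO x.1,
    fun x => etOpenι P _ ≫ EtOver.prodFst A B, fun x => etOpenι P _ ≫ EtOver.prodSnd A B, fun W a' b' w => ?_⟩
  obtain ⟨l, hl₁, hl₂⟩ := exists_prodObj_lift a' b'
  have hmem := hs (Set.mem_univ (l.hom.left.left w))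
  simp only [Set.mem_iUnion] at hmem
  obtain ⟨x, hx, hwx⟩ := hmem
  obtain ⟨O', hO', hwO', hO'le⟩ := exists_isAffineOpen_mem_and_subset
    (U := l.hom.left.left ⁻¹ᵁ O x) (x := w) hwx
  obtain ⟨m, hm⟩ := exists_etOpen_lift P (O x) (etOpenι W O' ≫ l) fun v => hO'le v.2
  exact ⟨etOpen W O', etOpenι W O', ⟨x, hx⟩, m, hO', ⟨⟨w, hwO'⟩, rfl⟩,
    by rw [← Category.assoc, hm, Category.assoc, hl₁], by rw [← Category.assoc, hm, Category.assoc, hl₂]⟩

end Groth.Agent.EtCoh7
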