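import Groth.Agent.EtCoh7.SubCoh

/-!
# Coherence of the bounded submodules and exhaustion by them
-/

set_option backward.isDefEq.respectTransparency false
set_option backward.isDefEq.respectTransparency.types false
set_option linter.style.haveILetI false
set_option linter.unusedVariables false
set_option maxHeartbeats 1000000

universe u

open CategoryTheory CategoryTheory.Limits AlgebraicGeometry Opposite AlgSp TensorProduct

namespace Groth.Agent.EtCoh7

open Groth.Agent.AlgSpQ4.MV Groth.Agent.AlgSpDec Groth.Agent.EtQCoh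

variable {S : Scheme.{u}} {X : Sp S} {M : ModEt X} {ι : Type u} {E : ι → EtOver X}
  {G : ∀ i, Finset (sectModEt M (E i))}

/-- Restriction along a morphism, linear over the functions on the source object. -/
noncomputable def resTo (M : ModEt X) {A V : EtOver X} (a : V ⟶ A) :
    letI : Module (gam A) (sectModEt M V) := Module.compHom _ (pb a)
    sectModEt M A →ₗ[gam A] sectModEt M V :=
  letI : Module (gam A) (sectModEt M V) := Module.compHom _ (pb a)
  { toFun := res M a, map_add' := map_add _, map_smul' := fun r x => res_smul a r x }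

/-- Base change of a combination along a fibre product lies in the image of the base change map. -/
theorem smul_res_mem_range {A T V W : EtOver X} [IsAffine A.obj.left.left] [IsAffine V.obj.left.left]
    [IsAffine T.obj.left.left] (g : T ⟶ A) (a : V ⟶ A) (p : W ⟶ T) (q : W ⟶ V) (hw : p ≫ g = q ≫ a)
    (h : IsPullback p.hom.left.left q.hom.left.left g.hom.left.left a.hom.left.left)
    (K : Submodule (gam V) (sectModEt M V)) :
    letI := (pb g).toAlgebra
    letI : Module (gam A) (sectModEt M V) := Module.compHom _ (pb a)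
    ∀ (w : gam W) (x : sectModEt M V), x ∈ K → ∃ t, (∀ hK : Submodule (gam A) (sectModEt M V),
      (hK : Set (sectModEt M V)) = K → t ∈ LinearMap.range (hK.subtype.lTensor (gam T))) ∧
        κ M g a p q hw t = w • res M q x := by
  let := (pb g).toAlgebra; let := (pb a).toAlgebra; let := (pb p).toAlgebra; let := (pb q).toAlgebra
  let := (pb (p ≫ g)).toAlgebra
  let : Module (gam A) (sectModEt M V) := Module.compHom _ (pb a)
  have : IsScalarTower (gam A) (gam T) (gam W) := .of_algebraMap_eq fun _ => rfl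
  have : IsScalarTower (gam A) (gam V) (gam W) := .of_algebraMap_eq fun x =>
    (DFunLike.congr_fun (congrArg pb hw) x : pb (p ≫ g) x = pb (q ≫ a) x)
  have := (isPushout_gam hw h).symm
  intro w
  induction w using this.out.inductionOn with
  | zero => exact fun x _ => ⟨0, fun hK _ => Submodule.zero_mem _, by rw [map_zero, zero_smul]⟩
  | tmul r =>
    intro x hx
    refine ⟨r ⊗ₜ[gam A] x, fun hK e => ⟨r ⊗ₜ[gam A] ⟨x, by rw [← SetLike.mem_coe, e]; exact hx⟩, rfl⟩, ?_⟩
    rw [κ_tmul]
    rfl
  | smul s w ih =>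
    intro x hx
    obtain ⟨t, ht, e⟩ := ih (s • x) (K.smul_mem s hx)
    refine ⟨t, ht, e.trans ?_⟩
    rw [res_smul, ← mul_smul, mul_comm]
    rfl
  | add w w' ih ih' =>
    intro x hx
    obtain ⟨t, ht, e⟩ := ih x hx
    obtain ⟨t', ht', e'⟩ := ih' x hx
    exact ⟨t + t', fun hK eK => Submodule.add_mem _ (ht hK eK) (ht' hK eK), by rw [map_add, e, e', add_smul]⟩

/-- The base change of a restriction lands in a submodule if the restriction to the fibre product does. -/
theorem mem_range_lTensor {A T V W : EtOver X} [M.IsQuasicoherent] [IsAffine A.obj.left.left]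
    [IsAffine V.obj.left.left] [IsAffine T.obj.left.left] [IsAffine W.obj.left.left] (g : T ⟶ A) (a : V ⟶ A) (p : W ⟶ T)
    (q : W ⟶ V) (hw : p ≫ g = q ≫ a)
    (h : IsPullback p.hom.left.left q.hom.left.left g.hom.left.left a.hom.left.left)
    (K : Submodule (gam V) (sectModEt M V)) :
    letI := (pb g).toAlgebra
    letI : Module (gam A) (sectModEt M V) := Module.compHom _ (pb a)
    ∀ (hK : Submodule (gam A) (sectModEt M V)), (hK : Set (sectModEt M V)) = K →
    ∀ t : gam T ⊗[gam A] sectModEt M A, res M p (θ M g t) ∈ Submodule.span (gam W) (res M q '' K) →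
      (resTo M a).lTensor (gam T) t ∈ LinearMap.range (hK.subtype.lTensor (gam T)) := by
  let := (pb g).toAlgebra
  let : Module (gam A) (sectModEt M V) := Module.compHom _ (pb a)
  intro hK eK t ht
  have hinj := (κ_bijective M g a p q hw h (cartAt M V W inferInstance q)).1
  have key : κ M g a p q hw ((resTo M a).lTensor (gam T) t) = res M p (θ M g t) := by
    clear ht
    induction t with
    | zero => simp
    | add x y hx hy => simp only [map_add, hx, hy]
    | tmul r y =>
      rw [LinearMap.lTensor_tmul, κ_tmul, θ_tmul, res_smul, ← res_comp, hw, res_comp]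
      rfl
  suffices H : ∀ z ∈ Submodule.span (gam W) (res M q '' (K : Set (sectModEt M V))),
      ∀ w : gam W, ∃ t', t' ∈ LinearMap.range (hK.subtype.lTensor (gam T)) ∧ κ M g a p q hw t' = w • z by
    obtain ⟨t', ht', e⟩ := H _ ht 1
    rw [one_smul] at e
    rw [hinj (key.trans e.symm)]
    exact ht'
  intro z hz
  induction hz using Submodule.span_induction with
  | mem z hz =>
    obtain ⟨x, hx, rfl⟩ := hz
    intro w
    obtain ⟨t', ht', e⟩ := smul_res_mem_range g a p q hw h K w x hx
    exact ⟨t', ht' hK eK, e⟩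
  | zero => exact fun w => ⟨0, Submodule.zero_mem _, by simp⟩
  | add z z' _ _ ih ih' =>
    intro w
    obtain ⟨t', ht', e⟩ := ih w
    obtain ⟨t'', ht'', e'⟩ := ih' w
    exact ⟨t' + t'', Submodule.add_mem _ ht' ht'', by rw [map_add, e, e', smul_add]⟩
  | smul r z _ ih =>
    intro w
    rw [← mul_smul]
    exact ih (w * r)

/-- The bounded sections are those bounded on finitely many refinements. -/
theorem mem_bSub_of_refinement [M.IsQuasicoherent] {A : EtOver X} {m : sectModEt M A}
    (h : ∀ i : ι, ∀ (W : EtOver X) (a' : W ⟶ A) (b' : W ⟶ E i) (w : ↥W.obj.left.left),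
      ∃ (W' : EtOver X) (f : W' ⟶ W), IsAffine W'.obj.left.left ∧ w ∈ Set.range f.hom.left.left ∧
        res M (f ≫ a') m ∈ bnd M E G (f ≫ b')) : m ∈ bSub M E G A := by
  intro i V hV a b
  choose W' f hW hw hm using fun w => h i V a b w
  refine mem_bnd_of_cover b W' f (fun w => ⟨w, hw w⟩) fun w => ?_
  rw [← res_comp]
  exact hm w

/-- The bounded sections form a cartesian module. -/
theorem cartAt_bMod [QuasiSeparatedSpace ↥S] (hqs : IsQuasiSeparatedSp X) [Finite ι] [M.IsQuasicoherent]
    (hE : ∀ i, IsAffine (E i).obj.left.left) {A : EtOver X} [IsAffine A.obj.left.left] : CartAt (bMod M E G) A := by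
  classical
  intro T hT g
  let := (pb g).toAlgebra
  have := flat_pb' g
  refine ⟨?_, fun n => ?_⟩
  · intro t t' e
    apply Module.Flat.lTensor_preserves_injective_linearMap (M := gam T) _ (bι_injective (G := G) A)
    apply (cartAt M A T hT g).1
    rw [θ_nat, θ_nat, e]
  obtain ⟨t, ht⟩ := (cartAt M A T hT g).2 (appLin (bι M E G) T n)
  choose κ hκ V hV a b hlift using fun i => (haveI := hE i; exists_finite_refinement hqs A (E i))
  let J := Σ i, κ i
  have : Fintype J := Fintype.ofFinite J
  letI inst : ∀ j : J, Module (gam A) (sectModEt M (V j.1 j.2)) := fun j => Module.compHom _ (pb (a j.1 j.2))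
  let K : ∀ j : J, Submodule (gam A) (sectModEt M (V j.1 j.2)) := fun j =>
    { carrier := (bnd M E G (b j.1 j.2) : Set _)
      add_mem' := (bnd M E G (b j.1 j.2)).add_mem
      zero_mem' := (bnd M E G (b j.1 j.2)).zero_mem
      smul_mem' := fun r x hx => (bnd M E G (b j.1 j.2)).smul_mem (pb (a j.1 j.2) r) hx }
  let Ψ : sectModEt M A →ₗ[gam A] ∀ j : J, sectModEt M (V j.1 j.2) ⧸ K j :=
    LinearMap.pi fun j => (K j).mkQ.comp (resTo M (a j.1 j.2))
  have hex : Function.Exact (appLin (bι M E G) A) Ψ := by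
    intro m
    constructor
    · intro hm
      refine ⟨⟨m, mem_bSub_of_refinement fun i W a' b' w => ?_⟩, rfl⟩
      obtain ⟨W', f, k, l, hW', hw, hla, hlb⟩ := hlift i W a' b' w
      refine ⟨W', f, hW', hw, ?_⟩
      have hk : res M (a i k) m ∈ bnd M E G (b i k) :=
        (Submodule.Quotient.mk_eq_zero (K ⟨i, k⟩)).1 (congrFun hm ⟨i, k⟩)
      rw [← hla, ← hlb, res_comp]
      exact res_mem_bnd _ _ hk
    · rintro ⟨x, rfl⟩
      funext j
      exact (Submodule.Quotient.mk_eq_zero (K j)).2 (x.2 j.1 (V j.1 j.2) (hV j.1 j.2) (a j.1 j.2) (b j.1 j.2))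
  have h0 : Ψ.lTensor (gam T) t = 0 := by
    apply (TensorProduct.piRight (gam A) (gam A) (gam T) _).injective
    rw [map_zero]
    funext j
    have e : ∀ s, TensorProduct.piRight (gam A) (gam A) (gam T) _ (Ψ.lTensor (gam T) s) j =
        (K j).mkQ.lTensor (gam T) ((resTo M (a j.1 j.2)).lTensor (gam T) s) := fun s => by
      induction s with
      | zero => simp
      | add x y hx hy => simp only [map_add, Pi.add_apply, hx, hy]
      | tmul r x => rfl
    rw [e]
    have := hV j.1 j.2
    obtain ⟨W, hW, p, q, hw, hp, -⟩ := exists_affine_pullback g (a j.1 j.2)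
    obtain ⟨s, hs⟩ := mem_range_lTensor g (a j.1 j.2) p q hw hp (bnd M E G (b j.1 j.2)) (K j) rfl t (by
      rw [ht]
      have h := (n : bSub M E G T).2 j.1 W hW p (q ≫ b j.1 j.2)
      refine Submodule.span_le.2 ?_ h
      rintro _ ⟨y, hy, rfl⟩
      rw [res_comp]
      exact Submodule.subset_span ⟨_, Submodule.subset_span ⟨y, hy, rfl⟩, rfl⟩)
    rw [← hs, ← LinearMap.comp_apply, ← LinearMap.lTensor_comp,
      show (K j).mkQ.comp (K j).subtype = 0 from LinearMap.ext fun x => (Submodule.Quotient.mk_eq_zero _).2 x.2,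
      LinearMap.lTensor_zero]
    rfl
  obtain ⟨s, hs⟩ := (Module.Flat.lTensor_exact (gam T) hex t).1 h0
  refine ⟨s, bι_injective T ?_⟩
  rw [← θ_nat, hs, ht]

/-- The bounded sections are finitely generated on Noetherian affine objects. -/
theorem finite_bMod [QuasiSeparatedSpace ↥S] (hqs : IsQuasiSeparatedSp X) [Finite ι] [M.IsQuasicoherent]
    (hE : ∀ i, IsNoeth (E i)) (hcov : ∀ x : Points X, ∃ (i : ι) (e : ↥(E i).obj.left.left), Points.ofPt (E i).obj.hom e = x)
    {A : EtOver X} (hA : IsNoeth A) : Module.Finite (gam A) (sectModEt (bMod M E G) A) := by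
  have := hA.1
  have hEf : ∀ i, Module.Finite (gam (E i)) (sectModEt (bMod M E G) (E i)) := fun i => by
    have := (hE i).1; have := (hE i).2
    let P := Submodule.span (gam (E i)) (↑(G i) : Set (sectModEt M (E i)))
    have : Module.Finite (gam (E i)) P := Module.Finite.of_fg ⟨G i, rfl⟩
    let f : sectModEt (bMod M E G) (E i) →ₗ[gam (E i)] P :=
      (appLin (bι M E G) (E i)).codRestrict P fun x => bSub_self_le i x.2
    exact Module.Finite.of_injective f fun x y e => bι_injective (E i)
      (show appLin (bι M E G) (E i) x = appLin (bι M E G) (E i) y from congrArg (fun z : P => z.1) e)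
  have hloc : ∀ x : ↥A.obj.left.left, ∃ (W : EtOver X) (g : W ⟶ A), IsAffine W.obj.left.left ∧
      x ∈ Set.range g.hom.left.left ∧ Module.Finite (gam W) (sectModEt (bMod M E G) W) := fun x => by
    obtain ⟨i, e, he⟩ := hcov (Points.ofPt A.obj.hom x)
    obtain ⟨W, hW, g, g', w, hg, hg'⟩ := exists_common_chart x e he.symm
    have := (hE i).1
    obtain ⟨s, hs⟩ := (hEf i).fg_top
    refine ⟨W, g, hW, ⟨w, hg⟩, ⟨Submodule.fg_def.2 ⟨_, s.finite_toSet.image _, span_res_eq_top
      (cartAt_bMod hqs (fun j => (hE j).1)) g' hs⟩⟩⟩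
  choose W g hW hx hf using hloc
  obtain ⟨κ, hκ, Y, hY, h, hm, hc⟩ := exists_finite_affine_cover (Sieve.ofArrows W g)
    (AlgSp.ofArrows_mem_etTop W g fun x => ⟨x, hx x⟩)
  refine finite_of_cover (cartAt_bMod hqs (fun j => (hE j).1)) Y h hc fun k => ?_
  obtain ⟨x, l, hl⟩ := (Sieve.mem_ofArrows_iff _ _ _).1 (hm k)
  have := hW x
  obtain ⟨s, hs⟩ := (hf x).fg_top
  exact ⟨Submodule.fg_def.2 ⟨_, s.finite_toSet.image _, span_res_eq_top
    (cartAt_bMod hqs (fun j => (hE j).1)) l hs⟩⟩

theorem isFinitePresentation_bMod [QuasiSeparatedSpace ↥S] (hqs : IsQuasiSeparatedSp X) (hN : IsLocNoethSp X)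
    [Finite ι] [M.IsQuasicoherent] (hE : ∀ i, IsNoeth (E i))
    (hcov : ∀ x : Points X, ∃ (i : ι) (e : ↥(E i).obj.left.left), Points.ofPt (E i).obj.hom e = x) :
    (bMod M E G).IsFinitePresentation :=
  isFinitePresentation_of_cartAt hN _ fun A hA => by
    have := hA.1
    exact ⟨cartAt_bMod hqs (fun j => (hE j).1), finite_bMod hqs hE hcov hA⟩

/-- Every section over a chart is bounded by some finite sets. -/
theorem exists_bound [QuasiSeparatedSpace ↥S] (hqs : IsQuasiSeparatedSp X) [Finite ι] [M.IsQuasicoherent]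
    (hE : ∀ i, IsAffine (E i).obj.left.left) (i₀ : ι) (x : sectModEt M (E i₀)) :
    ∃ G : ∀ i, Finset (sectModEt M (E i)), x ∈ bSub M E G (E i₀) := by
  classical
  have := hE i₀
  choose κ hκ V hV a b hlift using fun i => (haveI := hE i; exists_finite_refinement hqs (E i₀) (E i))
  have hs : ∀ i k, ∃ s : Finset (sectModEt M (E i)),
      res M (a i k) x ∈ Submodule.span (gam (V i k)) (res M (b i k) '' ↑s) := fun i k => by
    have := hE i; have := hV i k
    have htop : Submodule.span (gam (E i)) (Set.univ : Set (sectModEt M (E i))) = ⊤ := Submodule.span_univ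
    have h := span_res_eq_top (cartAt M (E i)) (b i k) htop
    obtain ⟨s, hs, hxs⟩ := Submodule.mem_span_finite_of_mem_span (h ▸ (Submodule.mem_top : res M (a i k) x ∈ ⊤))
    rw [Set.image_univ] at hs
    choose f hf using fun y : s => hs y.2
    refine ⟨s.attach.image f, Submodule.span_mono ?_ hxs⟩
    intro y hy
    exact ⟨f ⟨y, hy⟩, by simp, hf ⟨y, hy⟩⟩
  choose s hs using hs
  have : ∀ i, Fintype (κ i) := fun i => Fintype.ofFinite _
  refine ⟨fun i => Finset.univ.biUnion (s i), mem_bSub_of_refinement fun i W a' b' w => ?_⟩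
  obtain ⟨W', f, k, l, hW', hw, hla, hlb⟩ := hlift i W a' b' w
  refine ⟨W', f, hW', hw, ?_⟩
  rw [← hla, ← hlb, res_comp]
  refine res_mem_bnd _ _ (Submodule.span_mono (Set.image_mono ?_) (hs i k))
  exact Finset.coe_subset.2 (Finset.subset_biUnion_of_mem (s i) (Finset.mem_univ k))

end Groth.Agent.EtCoh7
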