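import Groth.Agent.EtCoh7.SubCohFin
import Mathlib.CategoryTheory.Filtered.Basic
import Mathlib.CategoryTheory.Limits.Over

/-!
# A quasi-coherent module is the union of its coherent submodules
-/

set_option backward.isDefEq.respectTransparency false
set_option backward.isDefEq.respectTransparency.types false
set_option linter.style.haveILetI false
set_option linter.unusedVariables false
set_option linter.unusedSectionVars false
set_option maxHeartbeats 1000000

universe u

open CategoryTheory CategoryTheory.Limits AlgebraicGeometry Opposite AlgSp TensorProduct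

namespace Groth.Agent.EtCoh7

open Groth.Agent.AlgSpQ4.MV Groth.Agent.AlgSpDec Groth.Agent.EtQCoh

variable {S : Scheme.{u}} {X : Sp S} (M : ModEt X)

theorem add_eq_of_eq {R A B : Type*} [Semiring R] [AddCommMonoid A] [AddCommMonoid B] [Module R A] [Module R B]
    (φ : A →ₗ[R] B) {a a' : A} {b b' : B} (h : φ a = b) (h' : φ a' = b') : φ (a + a') = b + b' := by
  rw [map_add, h, h']

theorem res_res_add (N : ModEt X) {V W T : EtOver X} (f : V ⟶ W) (g : W ⟶ T) (y y' : sectModEt N T)
    {a b : sectModEt N V} (ha : a = res N (f ≫ g) y) (hb : b = res N (f ≫ g) y') :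
    res N f (res N g (y + y')) = a + b := by
  rw [ha, hb, ← res_comp, map_add]

theorem res_res_smul (N : ModEt X) {V W T : EtOver X} (f : V ⟶ W) (g : W ⟶ T) (r : gam T) (y : sectModEt N T)
    {a : sectModEt N V} (ha : a = res N (f ≫ g) y) :
    res N f (res N g (r • y)) = pb (f ≫ g) r • a := by
  rw [ha, ← res_comp, res_smul]

/-- The coherent submodules. -/
abbrev CohSub : Type (u + 2) :=
  ObjectProperty.FullSubcategory (fun N : MonoOver M => SheafOfModules.IsFinitePresentation N.obj.left)

variable {M}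

/-- The inclusion of a coherent submodule. -/
noncomputable abbrev CohSub.incl (j : CohSub M) : j.obj.obj.left ⟶ M := j.obj.obj.hom

instance CohSub.mono_incl (j : CohSub M) : Mono j.incl := j.obj.property

theorem CohSub.incl_injective (j : CohSub M) (T : EtOver X) : Function.Injective (appLin j.incl T) :=
  app_injective_of_mono j.incl T

theorem CohSub.appLin_w {j k : CohSub M} (f : j ⟶ k) (T : EtOver X) (w : sectModEt j.obj.obj.left T) :
    appLin k.incl T (appLin f.hom.hom.left T w) = appLin j.incl T w :=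
  congrArg (fun ψ => appLin ψ T w) (Over.w f.hom.hom)

/-- A morphism into the bounded sections. -/
noncomputable def liftB [M.IsQuasicoherent] {ι : Type u} {E : ι → EtOver X}
    {G : ∀ i, Finset (sectModEt M (E i))} {N : ModEt X} (φ : N ⟶ M)
    (h : ∀ (T : EtOver X) (n : sectModEt N T), appLin φ T n ∈ bSub M E G T) : N ⟶ bMod M E G :=
  ⟨PresheafOfModules.homMk
    { app := fun T => AddCommGrpCat.ofHom
        { toFun := fun n => ⟨appLin φ T.unop n, h T.unop n⟩
          map_zero' := Subtype.ext (map_zero _)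
          map_add' := fun x y => Subtype.ext (map_add _ _ _) }
      naturality := fun T T' f => by
        ext n
        exact Subtype.ext (appLin_res φ f.unop n) }
    fun T r n => Subtype.ext (map_smul (φ.val.app T).hom r n)⟩

theorem liftB_comp [M.IsQuasicoherent] {ι : Type u} {E : ι → EtOver X}
    {G : ∀ i, Finset (sectModEt M (E i))} {N : ModEt X} (φ : N ⟶ M)
    (h : ∀ (T : EtOver X) (n : sectModEt N T), appLin φ T n ∈ bSub M E G T) : liftB φ h ≫ bι M E G = φ :=
  SheafOfModules.hom_ext (PresheafOfModules.hom_ext fun T => ModuleCat.hom_ext (LinearMap.ext fun n => rfl))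

section

variable [QuasiSeparatedSpace ↥S] (hqs : IsQuasiSeparatedSp X) (hN : IsLocNoethSp X) [M.IsQuasicoherent]
  {ι : Type u} [Finite ι] {E : ι → EtOver X} (hE : ∀ i, IsNoeth (E i))
  (hcov : ∀ x : Points X, ∃ (i : ι) (e : ↥(E i).obj.left.left), Points.ofPt (E i).obj.hom e = x)

/-- A bounded submodule as a coherent submodule. -/
noncomputable def bObj (G : ∀ i, Finset (sectModEt M (E i))) : CohSub M :=
  ⟨MonoOver.mk (bι M E G), isFinitePresentation_bMod hqs hN hE hcov⟩

theorem exists_hom_bObj (j : CohSub M) :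
    ∃ G : ∀ i, Finset (sectModEt M (E i)), ∀ G', (∀ i, G i ⊆ G' i) → Nonempty (j ⟶ bObj hqs hN hE hcov G') := by
  classical
  have := j.property
  have hfin : ∀ i, ∃ G : Finset (sectModEt M (E i)), ∀ n : sectModEt j.obj.obj.left (E i),
      appLin j.incl (E i) n ∈ Submodule.span (gam (E i)) ↑G := fun i => by
    have := (hE i).1
    obtain ⟨s, hs⟩ := (finite_sect j.obj.obj.left (E i)).fg_top
    refine ⟨s.image (appLin j.incl (E i)), fun n => ?_⟩
    rw [Finset.coe_image]
    exact app_mem_span j.incl (hs ▸ Submodule.mem_top)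
  choose G hG using hfin
  refine ⟨G, fun G' hle => ⟨ObjectProperty.homMk (MonoOver.homMk (liftB (E := E) (G := G') j.incl fun T n => ?_) (liftB_comp _ _))⟩⟩
  intro i V hV a b
  have := (hE i).1
  have hn : res j.obj.obj.left a n ∈ Submodule.span (gam V) (res j.obj.obj.left b '' Set.univ) :=
    span_res_eq_top (cartAt j.obj.obj.left (E i)) b Submodule.span_univ ▸ Submodule.mem_top
  rw [← appLin_res]
  refine (Submodule.span_le.2 ?_) (app_mem_span j.incl hn)
  rintro _ ⟨_, ⟨m, -, rfl⟩, rfl⟩
  show appLin j.incl V (res j.obj.obj.left b m) ∈ bnd M E G' b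
  rw [appLin_res]
  exact Submodule.span_mono (Set.image_mono (Finset.coe_subset.2 (hle i))) (res_mem_span b (hG i m))

include hqs hN hE hcov in
theorem exists_le (j k : CohSub M) : ∃ l : CohSub M, Nonempty (j ⟶ l) ∧ Nonempty (k ⟶ l) := by
  classical
  obtain ⟨G, hG⟩ := exists_hom_bObj hqs hN hE hcov j
  obtain ⟨G', hG'⟩ := exists_hom_bObj hqs hN hE hcov k
  exact ⟨_, hG (fun i => G i ∪ G' i) (fun i => Finset.subset_union_left),
    hG' (fun i => G i ∪ G' i) (fun i => Finset.subset_union_right)⟩

include hqs hN hE hcov in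
theorem isFiltered_cohSub : IsFiltered (CohSub M) :=
  have : Nonempty (CohSub M) := ⟨bObj hqs hN hE hcov fun _ => ∅⟩
  have : IsFilteredOrEmpty (CohSub M) :=
    { cocone_objs := fun j k => by
        obtain ⟨l, ⟨f⟩, ⟨g⟩⟩ := exists_le hqs hN hE hcov j k
        exact ⟨l, f, g, trivial⟩
      cocone_maps := fun j k f g => ⟨k, 𝟙 k, by
        have : f = g := ObjectProperty.hom_ext _ (Subsingleton.elim _ _)
        rw [this]⟩ }
  ⟨⟩

include hqs hN hE hcov in
/-- Sections lie locally in coherent submodules. -/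
theorem exists_local_lift (T : EtOver X) (y : sectModEt M T) (x : ↥T.obj.left.left) :
    ∃ (W : EtOver X) (g : W ⟶ T) (j : CohSub M) (w : sectModEt j.obj.obj.left W),
      x ∈ Set.range g.hom.left.left ∧ appLin j.incl W w = res M g y := by
  classical
  obtain ⟨i, e, he⟩ := hcov (Points.ofPt T.obj.hom x)
  obtain ⟨W, hW, g, g', w, hg, hg'⟩ := exists_common_chart x e he.symm
  have := (hE i).1
  have hy : res M g y ∈ Submodule.span (gam W) (res M g' '' Set.univ) :=
    span_res_eq_top (cartAt M (E i)) g' Submodule.span_univ ▸ Submodule.mem_top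
  rw [Set.image_univ] at hy
  obtain ⟨s, hs, hys⟩ := Submodule.mem_span_finite_of_mem_span hy
  choose f hf using fun z : s => hs z.2
  choose G hG using fun z : s => exists_bound hqs (fun k => (hE k).1) i (f z)
  let G' := fun k => s.attach.biUnion fun z => G z k
  have hmem : res M g y ∈ bSub M E G' W := by
    refine (Submodule.span_le.2 ?_) hys
    intro z hz
    refine Eq.subst (motive := fun q => q ∈ bSub M E G' W) (hf ⟨z, hz⟩) ?_
    exact res_mem_bSub g' (bSub_mono (fun k => Finset.subset_biUnion_of_mem (fun z => G z k) (Finset.mem_attach _ _)) _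
      (hG ⟨z, hz⟩))
  exact ⟨W, g, bObj hqs hN hE hcov G', ⟨res M g y, hmem⟩, ⟨w, hg⟩, rfl⟩

variable (c : Cocone ((ObjectProperty.ι fun N : MonoOver M => SheafOfModules.IsFinitePresentation N.obj.left) ⋙
  MonoOver.forget M ⋙ Over.forget M))

/-- A leg of a cocone, with its source written out. -/
noncomputable def leg (j : CohSub M) : j.obj.obj.left ⟶ c.pt := c.ι.app j

theorem leg_w {j k : CohSub M} (f : j ⟶ k) : f.hom.hom.left ≫ leg c k = leg c j := c.w f

theorem appLin_leg_w {j k : CohSub M} (f : j ⟶ k) (T : EtOver X) (w : sectModEt j.obj.obj.left T) :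
    appLin (leg c k) T (appLin f.hom.hom.left T w) = appLin (leg c j) T w :=
  congrArg (fun ψ => appLin ψ T w) (leg_w c f)

include hqs hN hE hcov in
theorem lift_unique {T : EtOver X} {j k : CohSub M} (w : sectModEt j.obj.obj.left T) (w' : sectModEt k.obj.obj.left T)
    (h : appLin j.incl T w = appLin k.incl T w') : appLin (leg c j) T w = appLin (leg c k) T w' := by
  obtain ⟨l, ⟨f⟩, ⟨g⟩⟩ := exists_le hqs hN hE hcov j k
  have e₁ := (appLin_leg_w c f T w).symm
  have e₂ := (appLin_leg_w c g T w').symm
  have e : appLin f.hom.hom.left T w = appLin g.hom.hom.left T w' := CohSub.incl_injective l T (by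
    rw [CohSub.appLin_w, CohSub.appLin_w, h])
  rw [e₁, e₂, e]

/-- The value of the induced map at a section. -/
def IsVal {T : EtOver X} (y : sectModEt M T) (z : sectModEt c.pt T) : Prop :=
  ∀ (W : EtOver X) (g : W ⟶ T) (j : CohSub M) (w : sectModEt j.obj.obj.left W),
    appLin j.incl W w = res M g y → appLin (leg c j) W w = res c.pt g z

/-- The sieve where a section lifts to some coherent submodule. -/
def liftSieve {T : EtOver X} (y : sectModEt M T) : Sieve T where
  arrows W g := ∃ (j : CohSub M) (w : sectModEt j.obj.obj.left W), appLin j.incl W w = res M g y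
  downward_closed := fun {W W'} g ⟨j, w, hw⟩ h => ⟨j, res _ h w, by rw [appLin_res, hw, res_comp]⟩

include hqs hN hE hcov in
theorem liftSieve_mem {T : EtOver X} (y : sectModEt M T) : liftSieve y ∈ etTop X T := by
  choose W g j w hx hw using exists_local_lift (M := M) hqs hN hE hcov T y
  refine (etTop X).superset_covering ?_ (AlgSp.ofArrows_mem_etTop W g fun x => ⟨x, hx x⟩)
  rintro V f ⟨_, a, b, hb, rfl⟩
  obtain ⟨x⟩ := hb
  exact (liftSieve y).downward_closed ⟨j x, w x, hw x⟩ a

include hqs hN hE hcov in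
theorem existsUnique_isVal {T : EtOver X} (y : sectModEt M T) : ∃! z, IsVal c y z := by
  have hsh : Presieve.IsSheaf (etTop X) (c.pt.val.presheaf ⋙ CategoryTheory.forget AddCommGrpCat) :=
    (isSheaf_iff_isSheaf_of_type _ _).1
      ((Presheaf.isSheaf_iff_isSheaf_forget _ _ (CategoryTheory.forget AddCommGrpCat)).1 c.pt.isSheaf)
  let x : Presieve.FamilyOfElements (c.pt.val.presheaf ⋙ CategoryTheory.forget AddCommGrpCat) (liftSieve y).arrows :=
    fun W g hg => appLin (leg c hg.choose) W hg.choose_spec.choose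
  have hspec : ∀ (W : EtOver X) (g : W ⟶ T) (hg : liftSieve y g) (j : CohSub M) (w : sectModEt j.obj.obj.left W),
      appLin j.incl W w = res M g y → appLin (leg c j) W w = x g hg := fun W g hg j w hw =>
    lift_unique hqs hN hE hcov c w _ (hw.trans hg.choose_spec.choose_spec.symm)
  have hx : x.Compatible := fun W₁ W₂ V g₁ g₂ f₁ f₂ h₁ h₂ e => by
    have hV : liftSieve y (g₁ ≫ f₁) := (liftSieve y).downward_closed h₁ g₁
    have e₁ : res c.pt g₁ (x f₁ h₁) = x (g₁ ≫ f₁) hV := by
      show res c.pt g₁ (appLin _ _ _) = _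
      rw [← appLin_res]
      exact hspec _ _ hV _ _ (by rw [appLin_res, h₁.choose_spec.choose_spec, res_comp])
    have e₂ : res c.pt g₂ (x f₂ h₂) = x (g₁ ≫ f₁) hV := by
      show res c.pt g₂ (appLin _ _ _) = _
      rw [← appLin_res]
      exact hspec _ _ hV _ _ (by rw [appLin_res, h₂.choose_spec.choose_spec, ← res_comp, e])
    exact e₁.trans e₂.symm
  obtain ⟨z, hz, huniq⟩ := hsh _ (liftSieve_mem hqs hN hE hcov y) x hx
  refine ⟨z, fun W g j w hw => (hspec W g ⟨j, w, hw⟩ j w hw).trans (hz g ⟨j, w, hw⟩).symm, fun z' hz' => ?_⟩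
  exact huniq z' fun W g hg => (hz' W g hg.choose hg.choose_spec.choose hg.choose_spec.choose_spec).symm

theorem eq_of_local' (Z : ModEt X) {W : EtOver X} {R : Sieve W} (hR : R ∈ etTop X W) {a b : sectModEt Z W}
    (h : ∀ ⦃V : EtOver X⦄ (f : V ⟶ W), R f → res Z f a = res Z f b) : a = b :=
  (((isSheaf_iff_isSheaf_of_type _ _).1
      ((Presheaf.isSheaf_iff_isSheaf_forget _ _ (CategoryTheory.forget AddCommGrpCat)).1 Z.isSheaf)) R hR
    ).isSeparatedFor.ext h

include hqs hN hE hcov in
theorem leg_add {V : EtOver X} {j j₁ j₂ : CohSub M} (w : sectModEt j.obj.obj.left V)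
    (w₁ : sectModEt j₁.obj.obj.left V) (w₂ : sectModEt j₂.obj.obj.left V)
    (h : appLin j.incl V w = appLin j₁.incl V w₁ + appLin j₂.incl V w₂) :
    appLin (leg c j) V w = appLin (leg c j₁) V w₁ + appLin (leg c j₂) V w₂ := by
  obtain ⟨l, ⟨p⟩, ⟨q⟩⟩ := exists_le hqs hN hE hcov j₁ j₂
  have hl := add_eq_of_eq (appLin l.incl V) (CohSub.appLin_w p V w₁) (CohSub.appLin_w q V w₂)
  have hg := add_eq_of_eq (appLin (leg c l) V) (appLin_leg_w c p V w₁) (appLin_leg_w c q V w₂)
  exact (lift_unique hqs hN hE hcov c w _ (h.trans hl.symm)).trans hg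

include hqs hN hE hcov in
theorem leg_smul {V : EtOver X} {j j₁ : CohSub M} (r : gam V) (w : sectModEt j.obj.obj.left V)
    (w₁ : sectModEt j₁.obj.obj.left V) (h : appLin j.incl V w = r • appLin j₁.incl V w₁) :
    appLin (leg c j) V w = r • appLin (leg c j₁) V w₁ :=
  (lift_unique hqs hN hE hcov c w (r • w₁) (h.trans (map_smul (appLin j₁.incl V) r w₁).symm)).trans
    (map_smul (appLin (leg c j₁) V) r w₁)

include hqs hN hE hcov in
theorem IsVal.add {T : EtOver X} {y y' : sectModEt M T} {z z' : sectModEt c.pt T} (h : IsVal c y z)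
    (h' : IsVal c y' z') : IsVal c (y + y') (z + z') := by
  intro W g j w hw
  refine eq_of_local' c.pt ((etTop X).intersection_covering
    ((etTop X).pullback_stable g (liftSieve_mem hqs hN hE hcov y))
    ((etTop X).pullback_stable g (liftSieve_mem hqs hN hE hcov y'))) ?_
  rintro V f ⟨⟨j₁, w₁, h₁⟩, ⟨j₂, w₂, h₂⟩⟩
  have e := (appLin_res j.incl f w).trans ((congrArg (res M f) hw).trans (res_res_add M f g y y' h₁ h₂))
  exact (appLin_res (leg c j) f w).symm.trans ((leg_add hqs hN hE hcov c _ w₁ w₂ e).trans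
    (res_res_add c.pt f g z z' (h V (f ≫ g) j₁ w₁ h₁) (h' V (f ≫ g) j₂ w₂ h₂)).symm)

include hqs hN hE hcov in
theorem IsVal.smul {T : EtOver X} {y : sectModEt M T} {z : sectModEt c.pt T} (h : IsVal c y z) (r : gam T) :
    IsVal c (r • y) (r • z) := by
  intro W g j w hw
  refine eq_of_local' c.pt ((etTop X).pullback_stable g (liftSieve_mem hqs hN hE hcov y)) ?_
  rintro V f ⟨j₁, w₁, h₁⟩
  have e := (appLin_res j.incl f w).trans ((congrArg (res M f) hw).trans (res_res_smul M f g r y h₁))
  exact (appLin_res (leg c j) f w).symm.trans ((leg_smul hqs hN hE hcov c _ _ w₁ e).trans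
    (res_res_smul c.pt f g r z (h V (f ≫ g) j₁ w₁ h₁)).symm)

theorem IsVal.map {T T' : EtOver X} {y : sectModEt M T} {z : sectModEt c.pt T} (h : IsVal c y z) (f : T' ⟶ T) :
    IsVal c (res M f y) (res c.pt f z) := by
  intro W g j w hw
  rw [← res_comp]
  exact h W (g ≫ f) j w (by rw [res_comp]; exact hw)

/-- The value of the induced map. -/
noncomputable def descVal {T : EtOver X} (y : sectModEt M T) : sectModEt c.pt T :=
  (existsUnique_isVal hqs hN hE hcov c y).choose

theorem isVal_descVal {T : EtOver X} (y : sectModEt M T) : IsVal c y (descVal hqs hN hE hcov c y) :=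
  (existsUnique_isVal hqs hN hE hcov c y).choose_spec.1

theorem descVal_eq {T : EtOver X} {y : sectModEt M T} {z : sectModEt c.pt T} (h : IsVal c y z) :
    descVal hqs hN hE hcov c y = z :=
  ((existsUnique_isVal hqs hN hE hcov c y).choose_spec.2 z h).symm

/-- The induced map. -/
noncomputable def descHom : M ⟶ c.pt :=
  ⟨PresheafOfModules.homMk
    { app := fun T => AddCommGrpCat.ofHom (AddMonoidHom.mk' (fun y => descVal hqs hN hE hcov c y) fun y y' =>
        descVal_eq hqs hN hE hcov c
          (IsVal.add hqs hN hE hcov c (isVal_descVal hqs hN hE hcov c y) (isVal_descVal hqs hN hE hcov c y')))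
      naturality := fun T T' f => by
        ext y
        exact descVal_eq hqs hN hE hcov c (IsVal.map c (isVal_descVal hqs hN hE hcov c y) f.unop) }
    fun T r y => descVal_eq hqs hN hE hcov c (IsVal.smul hqs hN hE hcov c (isVal_descVal hqs hN hE hcov c y) r.down)⟩

/-- The union of the coherent submodules is the module. -/
noncomputable def isColimitCohSub : IsColimit ((Over.forgetCocone M).whisker
    (ObjectProperty.ι (fun N : MonoOver M => SheafOfModules.IsFinitePresentation N.obj.left) ⋙ MonoOver.forget M)) where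
  desc c := descHom hqs hN hE hcov c
  fac c j := SheafOfModules.hom_ext (PresheafOfModules.hom_ext fun T => ModuleCat.hom_ext (LinearMap.ext fun w => by
    obtain ⟨T⟩ := T
    show descVal hqs hN hE hcov c (appLin (CohSub.incl j) T w) = appLin (leg c j) T w
    have h := isVal_descVal hqs hN hE hcov c (appLin (CohSub.incl j) T w) T (𝟙 T) j w (res_id M _).symm
    rw [h, res_id]))
  uniq c m hm := SheafOfModules.hom_ext (PresheafOfModules.hom_ext fun T => ModuleCat.hom_ext (LinearMap.ext fun y => by
    obtain ⟨T⟩ := T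
    show appLin m T y = descVal hqs hN hE hcov c y
    refine (descVal_eq hqs hN hE hcov c fun W g j w hw => ?_).symm
    refine Eq.trans ?_ ((congrArg (appLin m W) hw).trans (appLin_res m g y))
    exact congrArg (fun ψ => appLin ψ W w) (hm j).symm))

end

theorem exhaustion [QuasiSeparatedSpace ↥S] (hqc : IsQuasiCompactSp X) (hqs : IsQuasiSeparatedSp X)
    (hN : IsLocNoethSp X) (M : ModEt X) [M.IsQuasicoherent] :
    IsFiltered (CohSub M) ∧ Nonempty (IsColimit ((Over.forgetCocone M).whisker
      (ObjectProperty.ι (fun N : MonoOver M => SheafOfModules.IsFinitePresentation N.obj.left) ⋙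
        MonoOver.forget M))) := by
  obtain ⟨ι, hι, E, hE, hcov⟩ := exists_finite_noeth_cover hqc hN
  exact ⟨isFiltered_cohSub hqs hN hE hcov, ⟨isColimitCohSub hqs hN hE hcov⟩⟩

end Groth.Agent.EtCoh7
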